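import Cfsg.Agent.H420.PG.F4Tw
import Cfsg.Agent.S1054
import Cfsg.Agent.H415.PG.Def

/-!
# Cross characteristic modules for `F₄(q)`, `q` even (helper420)

* `fix_F4` : in every module in characteristic `r ≠ 2` of `F₄(q)`, `q = 2^k`, some element of prime order dividing
  `q⁴ + 1` fixes a nonzero vector.
-/

set_option autoImplicit false
set_option linter.unusedSectionVars false

namespace Cfsg.Agent.H420.PG.F4

open Cfsg.Lie Cfsg.Agent.ChevalleyStructure Cfsg.Agent.ChevalleyStructure.Elts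
open Cfsg.Agent.ChevalleyStructure.SL2Hom (up lo mem_closure_SL2)
open Cfsg.Agent.Nodes.RGDFoldSL
open Cfsg.Agent.UGT.U2.FOne.SLInj (up_zero up_add hS_one bruhat)
open Cfsg.Agent.GpExc.Field (glMap coe_glMap glMap_xG)
open scoped MatrixGroups

universe u v w

/-! ### `ψ_{-r}` -/

section Neg

variable {k : Type u} [Field k] [CharP k 2]

theorem up_eq (t : k) : (up t : SL(2, k)) = wS 1 * lo t * (wS 1)⁻¹ := by
  rw [eq_mul_inv_iff_mul_eq]
  apply Subtype.ext
  rw [Matrix.SpecialLinearGroup.coe_mul, Matrix.SpecialLinearGroup.coe_mul, coe_wS one_ne_zero]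
  show (!![1, t; 0, 1] : Matrix (Fin 2) (Fin 2) k) * _ = _ * !![1, 0; t, 1]
  ext i j
  fin_cases i <;> fin_cases j <;> simp [Matrix.mul_apply, Fin.sum_univ_two, CharTwo.neg_eq]

theorem lo_eq' (t : k) : (lo t : SL(2, k)) = wS 1 * up t * (wS 1)⁻¹ := by
  rw [lo_eq, CharTwo.neg_eq]

theorem psi_neg {r : ℕ} (hr : r < 48) (hn : chevF4.neg (chevF4.neg r) = r) (g : SL(2, k)) :
    psi hF4 k (chevF4.neg r) g = psi hF4 k r (wS 1 * g * (wS 1)⁻¹) := by
  have hr' : chevF4.neg r < 48 := neg_lt48 hr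
  refine hom_ext (f := psi hF4 k (chevF4.neg r)) (g := (psi hF4 k r).comp (MulAut.conj (wS 1)).toMonoidHom)
    (fun t => ?_) (fun t => ?_) g
  · show _ = psi hF4 k r (wS 1 * up t * (wS 1)⁻¹)
    rw [← lo_eq', psi_up hF4 (show chevF4.neg r < chevF4.nroots from hr'), psi_lo hF4 (show r < chevF4.nroots from hr)]
  · show _ = psi hF4 k r (wS 1 * lo t * (wS 1)⁻¹)
    rw [← up_eq, psi_lo hF4 (show chevF4.neg r < chevF4.nroots from hr'), psi_up hF4 (show r < chevF4.nroots from hr),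
      hn]

end Neg

section Real

variable {k : Type u} {K : Type v} [Field k] [Field K] [CharP K 2] [CharP k 2] (e : ℕ) (f : K →+* k)

/-! ### The torus acts on `R` -/

/-- action of a diagonal matrix of a root `SL₂` -/
theorem hS_act {r s s' c : ℕ} (h : okM chevF4 r s s' c = true) {t : k} (ht : t ≠ 0) (u : k) :
    psi hF4 k r (hS t) * xG hF4 s u = xG hF4 s (t * u) * psi hF4 k r (hS t) := by
  have h1 := psi_act hF4 h (hS t) u 0
  rw [xG_zero, mul_one, coe_hS ht] at h1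
  simpa [xG_zero] using h1

/-- a diagonal matrix, as a product of four -/
theorem uu_hS (c : K) : uu e f (hS c) = psi hF4 k 41 (hS (fr e f 0 c)) * psi hF4 k 30 (hS (fr e f 1 c)) *
    psi hF4 k 25 (hS (fr e f 2 c)) * psi hF4 k 47 (hS (fr e f 3 c)) := by
  unfold uu
  simp only [map_hS]

theorem q_comm {r s : ℕ} (h : (r, s) ∈ [(25, 37), (47, 37), (41, 28), (47, 28), (41, 39), (30, 39), (30, 44), (25, 44),
    (21, 28), (21, 44), (5, 37), (5, 39), (21, 46), (5, 46)]) (g : SL(2, k)) (u : k) :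
    Commute (xG hF4 s u) (psi hF4 k r g) :=
  psi_comm_x hF4 (List.all_eq_true.1 tabQ _ h) g u

/-- helper: conjugation composes -/
theorem mv {G : Type*} [Group G] {a b x y z : G} (h1 : a * y = z * a) (h2 : b * x = y * b) :
    a * b * x = z * (a * b) := by
  rw [mul_assoc, h2, ← mul_assoc, h1, mul_assoc]

theorem mv2 {G : Type*} [Group G] {a x y x' y' : G} (h1 : a * x = x' * a) (h2 : a * y = y' * a) :
    a * (x * y) = x' * y' * a := by
  rw [← mul_assoc, h1, mul_assoc, h2, mul_assoc]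

theorem uu_zz [Fintype K] (hK : Fintype.card K = (2 ^ e) ^ 4) {c : K} (hc : c ≠ 0) (b : K) :
    uu e f (hS c) * zz e f b = zz e f (c * c ^ 2 ^ e * b) * uu e f (hS c) := by
  have h0 : ∀ i, fr e f i c ≠ 0 := fun i => (map_ne_zero _).2 hc
  have hM := tabM
  simp only [Bool.and_eq_true] at hM
  obtain ⟨m1, m2, m3, m4, m5, m6, m7, m8, -, -⟩ := hM
  have hs : ∀ i, fr e f i (c * c ^ 2 ^ e * b) = fr e f i c * fr e f (i + 1) c * fr e f i b := by
    intro i
    rw [map_mul, map_mul]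
    congr 2
    rw [fr_apply, fr_apply, ← pow_mul, ← pow_add, mul_add, mul_one, add_comm]
  have e4 : fr e f 4 c = fr e f 0 c := by rw [fr_four e f hK]
  rw [uu_hS]
  unfold zz
  -- each root element
  have a37 : ∀ t : k, (psi hF4 k 41 (hS (fr e f 0 c)) * psi hF4 k 30 (hS (fr e f 1 c)) *
      psi hF4 k 25 (hS (fr e f 2 c)) * psi hF4 k 47 (hS (fr e f 3 c))) * xG hF4 37 t =
      xG hF4 37 (fr e f 0 c * (fr e f 1 c * t)) * (psi hF4 k 41 (hS (fr e f 0 c)) * psi hF4 k 30 (hS (fr e f 1 c)) *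
      psi hF4 k 25 (hS (fr e f 2 c)) * psi hF4 k 47 (hS (fr e f 3 c))) := fun t =>
    mv (mv (mv (hS_act m1 (h0 0) _) (hS_act m2 (h0 1) _)) ((q_comm (by simp) _ _).symm.eq)) ((q_comm (by simp) _ _).symm.eq)
  have a28 : ∀ t : k, (psi hF4 k 41 (hS (fr e f 0 c)) * psi hF4 k 30 (hS (fr e f 1 c)) *
      psi hF4 k 25 (hS (fr e f 2 c)) * psi hF4 k 47 (hS (fr e f 3 c))) * xG hF4 28 t =
      xG hF4 28 (fr e f 1 c * (fr e f 2 c * t)) * (psi hF4 k 41 (hS (fr e f 0 c)) * psi hF4 k 30 (hS (fr e f 1 c)) *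
      psi hF4 k 25 (hS (fr e f 2 c)) * psi hF4 k 47 (hS (fr e f 3 c))) := fun t =>
    mv (mv (mv ((q_comm (by simp) _ _).symm.eq) (hS_act m3 (h0 1) _)) (hS_act m4 (h0 2) _)) ((q_comm (by simp) _ _).symm.eq)
  have a39 : ∀ t : k, (psi hF4 k 41 (hS (fr e f 0 c)) * psi hF4 k 30 (hS (fr e f 1 c)) *
      psi hF4 k 25 (hS (fr e f 2 c)) * psi hF4 k 47 (hS (fr e f 3 c))) * xG hF4 39 t =
      xG hF4 39 (fr e f 2 c * (fr e f 3 c * t)) * (psi hF4 k 41 (hS (fr e f 0 c)) * psi hF4 k 30 (hS (fr e f 1 c)) *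
      psi hF4 k 25 (hS (fr e f 2 c)) * psi hF4 k 47 (hS (fr e f 3 c))) := fun t =>
    mv (mv (mv ((q_comm (by simp) _ _).symm.eq) ((q_comm (by simp) _ _).symm.eq)) (hS_act m5 (h0 2) _)) (hS_act m6 (h0 3) _)
  have a44 : ∀ t : k, (psi hF4 k 41 (hS (fr e f 0 c)) * psi hF4 k 30 (hS (fr e f 1 c)) *
      psi hF4 k 25 (hS (fr e f 2 c)) * psi hF4 k 47 (hS (fr e f 3 c))) * xG hF4 44 t =
      xG hF4 44 (fr e f 0 c * (fr e f 3 c * t)) * (psi hF4 k 41 (hS (fr e f 0 c)) * psi hF4 k 30 (hS (fr e f 1 c)) *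
      psi hF4 k 25 (hS (fr e f 2 c)) * psi hF4 k 47 (hS (fr e f 3 c))) := fun t =>
    mv (mv (mv (hS_act m8 (h0 0) _) ((q_comm (by simp) _ _).symm.eq)) ((q_comm (by simp) _ _).symm.eq)) (hS_act m7 (h0 3) _)
  rw [mv2 (mv2 (a37 _) (a39 _)) (mv2 (a28 _) (a44 _)), hs, hs, hs, hs, zero_add, one_add_one_eq_two,
    two_add_one_eq_three, three_add_one_eq_four, e4]
  congr 2
  · congr 1
    · congr 1; ring
    · congr 1; ring
  · congr 1
    · congr 1; ring
    · congr 1; ring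

/-! ### The long root group `X` -/

variable {F : Type w} [Field F] [Fintype F] [Algebra F K]

/-- the elements of `X` -/
noncomputable def XX (c : F) : GL chevF4.Idx k := xG hF4 46 (f (algebraMap F K c))

theorem XX_add (c d : F) : XX (F := F) f (c + d) = XX f c * XX f d := by
  unfold XX
  rw [xG_add, map_add, map_add]

theorem XX_fix (hF : Fintype.card F = 2 ^ e) (c : F) : sg e (XX (F := F) f c) = XX f c := by
  obtain ⟨-, -, -, -, -, -, -, -, -, -, -, -, w, -⟩ := W_eq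
  unfold XX
  rw [sg_x e (by norm_num), w, iterateFrobenius_def, ← map_pow, ← map_pow, ← hF, FiniteField.pow_card]

theorem XX_mem (c : F) : XX (F := F) f c ∈ chevF4.group k := xG_mem_group hF4 _ _

theorem trace_eq [Fintype K] (hF : Fintype.card F = 2 ^ e) (hfr : Module.finrank F K = 4) (a : K) :
    f (algebraMap F K (Algebra.trace F K a)) = fr e f 0 a + fr e f 1 a + fr e f 2 a + fr e f 3 a := by
  have : Finite K := inferInstance
  rw [FiniteField.algebraMap_trace_eq_sum_pow, hfr, Nat.card_eq_fintype_card, hF, map_sum]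
  simp only [Finset.sum_range_succ, Finset.sum_range_zero, zero_add, fr_apply, pow_mul]

theorem yy_uu [Fintype K] (hF : Fintype.card F = 2 ^ e) (hfr : Module.finrank F K = 4) (a b : K) :
    yy e f b * uu e f (up a) = uu e f (up a) * XX f (Algebra.trace F K (a * b)) * yy e f b := by
  rw [uu_up]
  unfold yy
  have h := yy_uu_aux (k := k) (fun i => fr e f i a) (fun i => fr e f i b)
  rw [show ((0 : Fin 4) : ℕ) = 0 from rfl, show ((1 : Fin 4) : ℕ) = 1 from rfl, show ((2 : Fin 4) : ℕ) = 2 from rfl,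
    show ((3 : Fin 4) : ℕ) = 3 from rfl] at h
  rw [h, xG_add, xG_add, xG_add, ← map_mul, ← map_mul, ← map_mul, ← map_mul, ← trace_eq (F := F) e f hF hfr]
  have cy : ∀ (r : ℕ), r ∈ [32, 43, 45, 23] → ∀ t u : k, Commute (xG hF4 46 t) (xG hF4 r u) :=
    fun r hr t u => zy_comm (by simp) hr t u
  have hc : Commute (XX f (Algebra.trace F K (a * b)) : GL chevF4.Idx k)
      (xG hF4 32 (fr e f 0 b) * xG hF4 43 (fr e f 1 b) * xG hF4 45 (fr e f 2 b) * xG hF4 23 (fr e f 3 b)) :=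
    (((cy 32 (by simp) _ _).mul_right (cy 43 (by simp) _ _)).mul_right (cy 45 (by simp) _ _)).mul_right
      (cy 23 (by simp) _ _)
  rw [mul_assoc _ (XX f _), hc.eq]
  simp only [mul_assoc]
  rfl

/-! ### The element `g` -/

/-- the element `g` -/
noncomputable def gg (M : SL(2, K)) : GL chevF4.Idx k :=
  psi hF4 k 21 (Matrix.SpecialLinearGroup.map (fr e f 0) M) * psi hF4 k 5 (Matrix.SpecialLinearGroup.map (fr e f 1) M)

theorem gg_mem (M : SL(2, K)) : gg e f M ∈ chevF4.group k :=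
  mul_mem (psi_mem_group (by norm_num) _) (psi_mem_group (by norm_num) _)

/-- the symmetric matrix -/
def symM {A B : K} (h : A + B = 1) : SL(2, K) :=
  ⟨!![A, B; B, A], by
    rw [Matrix.det_fin_two_of]
    have h1 : A * A - B * B = (A + B) * (A + B) := by
      have h2 : A * A - B * B = (A + B) * (A - B) := by ring
      rw [h2, CharTwo.sub_eq_add]
    rw [h1, h, one_mul]⟩

theorem symM_conj {A B : k} (h : A + B = 1) : wS 1 * symM h * (wS 1)⁻¹ = symM h := by
  rw [mul_inv_eq_iff_eq_mul]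
  apply Subtype.ext
  rw [Matrix.SpecialLinearGroup.coe_mul, Matrix.SpecialLinearGroup.coe_mul, coe_wS one_ne_zero]
  show _ * (!![A, B; B, A] : Matrix (Fin 2) (Fin 2) k) = !![A, B; B, A] * _
  ext i j
  fin_cases i <;> fin_cases j <;> simp [Matrix.mul_apply, Fin.sum_univ_two, CharTwo.neg_eq]

theorem map_symM {A B : K} (h : A + B = 1) (g : K →+* k) : Matrix.SpecialLinearGroup.map g (symM h) =
    symM (A := g A) (B := g B) (by rw [← map_add, h, map_one]) := by
  apply Subtype.ext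
  apply Matrix.ext
  intro i j
  show g ((!![A, B; B, A] : Matrix (Fin 2) (Fin 2) K) i j) = (!![g A, g B; g B, g A] : Matrix (Fin 2) (Fin 2) k) i j
  fin_cases i <;> fin_cases j <;> simp

theorem map_symM_two {A B : K} (h : A + B = 1) (hA : A ^ 2 ^ (e * 2) = A) (hB : B ^ 2 ^ (e * 2) = B) :
    Matrix.SpecialLinearGroup.map (fr e f 2) (symM h) = Matrix.SpecialLinearGroup.map (fr e f 0) (symM h) := by
  rw [map_symM, map_symM]
  apply Subtype.ext
  show (!![_, _; _, _] : Matrix (Fin 2) (Fin 2) k) = !![_, _; _, _]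
  have h1 := fr_add_two e f hA 0
  have h2 := fr_add_two e f hB 0
  rw [zero_add] at h1 h2
  rw [h1, h2]

theorem neg_neg21 : chevF4.neg 21 = 26 ∧ chevF4.neg (chevF4.neg 21) = 21 := by decide +kernel

theorem gg_fix {A B : K} (h : A + B = 1) (hA : A ^ 2 ^ (e * 2) = A) (hB : B ^ 2 ^ (e * 2) = B) :
    sg e (gg e f (symM h)) = gg e f (symM h) := by
  obtain ⟨-, -, -, -, -, -, -, -, -, -, -, -, -, w1, w2, -⟩ := W_eq
  unfold gg
  rw [map_mul, sg_ps e (by simp), sg_ps e (by simp), w1, w2, map_fr, map_fr, zero_add, one_add_one_eq_two,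
    map_symM_two e f h hA hB]
  have h1 := psi_neg (k := k) (r := 21) (by norm_num) neg_neg21.2
    (Matrix.SpecialLinearGroup.map (fr e f 0) (symM h))
  rw [neg_neg21.1, map_symM (k := k) h (fr e f 0), symM_conj, ← map_symM (k := k) h (fr e f 0)] at h1
  rw [h1]
  exact (ps_comm (k := k) (r := 21) (s := 5) (by simp) _ _).symm.eq

theorem gg_XX (M : SL(2, K)) (c : F) : Commute (gg e f M) (XX f c : GL chevF4.Idx k) :=
  ((q_comm (r := 21) (s := 46) (by simp) _ _).mul_right (q_comm (r := 5) (s := 46) (by simp) _ _)).symm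

theorem gg_zz [Fintype K] (hF : Fintype.card F = 2 ^ e) (hK : Fintype.card K = (2 ^ e) ^ 4)
    (hfr : Module.finrank F K = 4) {A B : K} (h : A + B = 1)
    (hA : A ^ 2 ^ (e * 2) = A) (hB : B ^ 2 ^ (e * 2) = B) (b : K) :
    gg e f (symM h) * zz e f b = zz e f (A * b + B * b ^ 2 ^ (e * 2)) *
      XX f (Algebra.trace F K (A * B * b ^ 2)) * gg e f (symM h) := by
  have hM := tabM
  simp only [Bool.and_eq_true] at hM
  obtain ⟨-, -, -, -, -, -, -, -, m1, m2⟩ := hM
  have e1 := psi_act hF4 m1 (Matrix.SpecialLinearGroup.map (fr e f 0) (symM h)) (fr e f 0 b) (fr e f 2 b)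
  have e2 := psi_act hF4 m2 (Matrix.SpecialLinearGroup.map (fr e f 1) (symM h)) (fr e f 1 b) (fr e f 3 b)
  have hent : ∀ g : K →+* k, (Matrix.SpecialLinearGroup.map g (symM h)).1 0 0 = g A ∧
      (Matrix.SpecialLinearGroup.map g (symM h)).1 0 1 = g B ∧
      (Matrix.SpecialLinearGroup.map g (symM h)).1 1 0 = g B ∧
      (Matrix.SpecialLinearGroup.map g (symM h)).1 1 1 = g A := by
    intro g
    rw [map_symM]
    exact ⟨by simp [symM], by simp [symM], by simp [symM], by simp [symM]⟩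
  obtain ⟨p1, p2, p3, p4⟩ := hent (fr e f 0)
  obtain ⟨q1, q2, q3, q4⟩ := hent (fr e f 1)
  rw [p1, p2, p3, p4] at e1
  rw [q1, q2, q3, q4] at e2
  -- the conjugates of `b' = A b + B b^(q²)`
  have hb4 : (b ^ 2 ^ (e * 2)) ^ 2 ^ (e * 2) = b := by
    rw [← pow_mul, ← pow_add]
    have : 2 ^ (e * 2 + e * 2) = Fintype.card K := by rw [hK, ← pow_mul]; congr 1; ring
    rw [this, FiniteField.pow_card]
  have hfb : ∀ i, fr e f i (b ^ 2 ^ (e * 2)) = fr e f (i + 2) b := by
    intro i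
    rw [fr_apply, fr_apply, ← pow_mul, ← pow_add]
    congr 3
    ring
  have hfA : ∀ i, fr e f (i + 2) A = fr e f i A := fun i => fr_add_two e f hA i
  have hfB : ∀ i, fr e f (i + 2) B = fr e f i B := fun i => fr_add_two e f hB i
  have h4 : ∀ a, fr e f 4 a = fr e f 0 a := fun a => by rw [fr_four e f hK]
  have h5 : ∀ a, fr e f 5 a = fr e f 1 a := by
    intro a
    have h6 := congrArg (iterateFrobenius k 2 e) (h4 a)
    rwa [fr_succ, fr_succ] at h6
  have s0 : fr e f 0 (A * b + B * b ^ 2 ^ (e * 2)) = fr e f 0 A * fr e f 0 b + fr e f 0 B * fr e f 2 b := by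
    rw [map_add, map_mul, map_mul, hfb]
  have s1 : fr e f 1 (A * b + B * b ^ 2 ^ (e * 2)) = fr e f 1 A * fr e f 1 b + fr e f 1 B * fr e f 3 b := by
    rw [map_add, map_mul, map_mul, hfb]
  have s2 : fr e f 2 (A * b + B * b ^ 2 ^ (e * 2)) = fr e f 0 B * fr e f 0 b + fr e f 0 A * fr e f 2 b := by
    rw [map_add, map_mul, map_mul, hfb, hfA 0, hfB 0, h4, add_comm]
  have s3 : fr e f 3 (A * b + B * b ^ 2 ^ (e * 2)) = fr e f 1 B * fr e f 1 b + fr e f 1 A * fr e f 3 b := by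
    rw [map_add, map_mul, map_mul, hfb, hfA 1, hfB 1, h5, add_comm]
  -- the central term
  have hAB : ∀ i, fr e f i A * fr e f i A + fr e f i B * fr e f i B = 1 := by
    intro i
    have h6 : A * A + B * B = 1 := by
      have h7 : A * A + B * B = (A + B) * (A + B) + (A * B + A * B) - (A * B + A * B) - (A * B + A * B) := by ring
      rw [h7, CharTwo.add_self_eq_zero, h]
      ring
    rw [← map_mul, ← map_mul, ← map_add, h6, map_one]
  have hsq : ∀ i, fr e f i (b ^ 2) = fr e f i b ^ 2 := fun i => map_pow _ _ _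
  have key : ∀ i j : ℕ, fr e f i b * fr e f j b + (fr e f i A * fr e f i b + fr e f i B * fr e f j b) *
      (fr e f i B * fr e f i b + fr e f i A * fr e f j b) = fr e f i A * fr e f i B * fr e f i b ^ 2 +
        fr e f i A * fr e f i B * fr e f j b ^ 2 := by
    intro i j
    have h6 : fr e f i b * fr e f j b + (fr e f i A * fr e f i b + fr e f i B * fr e f j b) *
      (fr e f i B * fr e f i b + fr e f i A * fr e f j b) = fr e f i A * fr e f i B * fr e f i b ^ 2 +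
        fr e f i A * fr e f i B * fr e f j b ^ 2 + (fr e f i b * fr e f j b +
        (fr e f i A * fr e f i A + fr e f i B * fr e f i B) * (fr e f i b * fr e f j b)) := by ring
    rw [h6, hAB, one_mul, CharTwo.add_self_eq_zero, add_zero]
  have htr : f (algebraMap F K (Algebra.trace F K (A * B * b ^ 2))) =
      (fr e f 0 A * fr e f 0 B * fr e f 0 b ^ 2 + fr e f 0 A * fr e f 0 B * fr e f 2 b ^ 2) +
      (fr e f 1 A * fr e f 1 B * fr e f 1 b ^ 2 + fr e f 1 A * fr e f 1 B * fr e f 3 b ^ 2) := by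
    rw [trace_eq (F := F) e f hF hfr]
    simp only [map_mul, hsq]
    rw [hfA 0, hfB 0, hfA 1, hfB 1]
    ring
  rw [key 0 2] at e1
  rw [key 1 3] at e2
  unfold gg zz
  rw [s0, s1, s2, s3]
  have XXe : (XX f (Algebra.trace F K (A * B * b ^ 2)) : GL chevF4.Idx k) =
      xG hF4 46 (fr e f 0 A * fr e f 0 B * fr e f 0 b ^ 2 + fr e f 0 A * fr e f 0 B * fr e f 2 b ^ 2) *
      xG hF4 46 (fr e f 1 A * fr e f 1 B * fr e f 1 b ^ 2 + fr e f 1 A * fr e f 1 B * fr e f 3 b ^ 2) := by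
    unfold XX
    rw [htr, xG_add]
  rw [XXe]
  set P := psi hF4 k 21 (Matrix.SpecialLinearGroup.map (fr e f 0) (symM h)) with hP
  set Q := psi hF4 k 5 (Matrix.SpecialLinearGroup.map (fr e f 1) (symM h)) with hQ
  set c0 := xG hF4 46 (fr e f 0 A * fr e f 0 B * fr e f 0 b ^ 2 + fr e f 0 A * fr e f 0 B * fr e f 2 b ^ 2) with hc0
  set c1 := xG hF4 46 (fr e f 1 A * fr e f 1 B * fr e f 1 b ^ 2 + fr e f 1 A * fr e f 1 B * fr e f 3 b ^ 2) with hc1
  set z0 := xG hF4 37 (fr e f 0 b) * xG hF4 39 (fr e f 2 b) with hz0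
  set z1 := xG hF4 28 (fr e f 1 b) * xG hF4 44 (fr e f 3 b) with hz1
  set w0 := xG hF4 37 (fr e f 0 A * fr e f 0 b + fr e f 0 B * fr e f 2 b) *
    xG hF4 39 (fr e f 0 B * fr e f 0 b + fr e f 0 A * fr e f 2 b) with hw0
  set w1 := xG hF4 28 (fr e f 1 A * fr e f 1 b + fr e f 1 B * fr e f 3 b) *
    xG hF4 44 (fr e f 1 B * fr e f 1 b + fr e f 1 A * fr e f 3 b) with hw1
  have k1 : Commute Q z0 :=
    ((q_comm (r := 5) (s := 37) (by simp) _ _).mul_left (q_comm (r := 5) (s := 39) (by simp) _ _)).symm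
  have k2 : Commute P w1 :=
    ((q_comm (r := 21) (s := 28) (by simp) _ _).mul_left (q_comm (r := 21) (s := 44) (by simp) _ _)).symm
  have k3 : Commute P c1 := (q_comm (r := 21) (s := 46) (by simp) _ _).symm
  have k4 : Commute c0 w1 := by
    have z46 : ∀ s, s ∈ [28, 44] → ∀ t u : k, Commute (xG hF4 46 t) (xG hF4 s u) := by
      intro s hs t u
      have h7 : okB chevF4 46 s [] = true := by
        have : [28, 44].all (fun s => okB chevF4 46 s []) = true := by decide +kernel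
        exact List.all_eq_true.1 this s hs
      exact comm_of hF4 h7 t u
    exact (z46 28 (by simp) _ _).mul_right (z46 44 (by simp) _ _)
  calc P * Q * (z0 * z1) = P * (Q * z0) * z1 := by simp only [mul_assoc]
    _ = P * z0 * (Q * z1) := by rw [k1.eq]; simp only [mul_assoc]
    _ = w0 * c0 * P * (w1 * c1 * Q) := by rw [e1, e2]
    _ = w0 * c0 * (P * (w1 * c1)) * Q := by simp only [mul_assoc]
    _ = w0 * (c0 * w1) * c1 * P * Q := by rw [(k2.mul_right k3).eq]; simp only [mul_assoc]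
    _ = w0 * w1 * (c0 * c1) * (P * Q) := by rw [k4.eq]; simp only [mul_assoc]

end Real

/-! ### The homomorphism `Ψ` is injective -/

section Inj

variable {k : Type u} {K : Type v} [Field k] [Field K] [CharP K 2] [CharP k 2] (e : ℕ) (f : K →+* k)

theorem uu_up_inj {a : K} (h : uu e f (up a) = 1) : a = 0 := by
  rw [uu_up] at h
  have h1 := yy_uu_aux (k := k) (fun i => fr e f i a) (fun i => if i = 0 then 1 else 0)
  rw [show ((0 : Fin 4) : ℕ) = 0 from rfl, show ((1 : Fin 4) : ℕ) = 1 from rfl, show ((2 : Fin 4) : ℕ) = 2 from rfl,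
    show ((3 : Fin 4) : ℕ) = 3 from rfl, h] at h1
  simp only [Fin.isValue, if_true, if_neg (show (1 : Fin 4) ≠ 0 by decide), if_neg (show (2 : Fin 4) ≠ 0 by decide),
    if_neg (show (3 : Fin 4) ≠ 0 by decide), mul_zero, xG_zero, mul_one, one_mul] at h1
  have h2 := (xG_eq_one_iff hF4 (show 46 < chevF4.nroots by decide) _).1 (left_eq_mul.1 h1)
  rw [fr_zero] at h2
  exact (map_eq_zero f).1 h2

theorem uu_eq_one [Fintype K] (hK : 4 < Fintype.card K) {g : SL(2, K)} (hg : g.1 1 0 ≠ 0) : uu e f g ≠ 1 := by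
  intro h
  let Φ : SL(2, K) →* GL chevF4.Idx k := MonoidHom.mk' (uu e f) (uu_mul e f)
  have hΦ : ∀ g, Φ g = uu e f g := fun _ => rfl
  obtain ⟨x, c, y, hc, rfl⟩ := bruhat g hg
  rw [← hΦ, map_mul, map_mul] at h
  have hup : ∀ a : K, Φ (up a) = 1 → a = 0 := fun a ha => uu_up_inj e f ha
  -- `Φ (wS c)` is in `U`
  have h1 : Φ (wS c) = Φ (up (-x + -y)) := by
    rw [up_add, map_mul]
    have e1 : Φ (up (-x)) = (Φ (up x))⁻¹ := by
      rw [eq_inv_iff_mul_eq_one, ← map_mul, ← up_add, neg_add_cancel, up_zero, map_one]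
    have e2 : Φ (up (-y)) = (Φ (up y))⁻¹ := by
      rw [eq_inv_iff_mul_eq_one, ← map_mul, ← up_add, neg_add_cancel, up_zero, map_one]
    rw [e1, e2, eq_mul_inv_iff_mul_eq]
    exact eq_inv_of_mul_eq_one_right (by rw [← mul_assoc]; exact h)
  have h2 : ∀ a : K, Φ (wS c * up a) = Φ (up a * wS c) := by
    intro a
    rw [map_mul, map_mul, h1, ← map_mul, ← map_mul, ← up_add, ← up_add, add_comm]
  -- conjugate by a diagonal matrix
  have h3 : ∀ d : K, d ≠ 0 → d ^ 4 = 1 := by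
    intro d hd
    have hw : ∀ a : K, Φ (up a) = Φ (wS c * up a * (wS c)⁻¹) := by
      intro a
      rw [map_mul, h2, ← map_mul, mul_inv_cancel_right]
    have e1 := hw (d ^ 2 * 1)
    have e2 : (hS d : SL(2, K)) * up 1 * (hS d)⁻¹ = up (d ^ 2 * 1) := by rw [hS_mul_up hd, mul_inv_cancel_right]
    have e3 : (wS c : SL(2, K)) * hS d = hS d⁻¹ * wS c := by
      rw [wS_mul_hS hc hd, hS_mul_wS hc (inv_ne_zero hd), mul_comm]
    have e4 : (wS c : SL(2, K)) * (hS d * up 1 * (hS d)⁻¹) * (wS c)⁻¹ =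
        hS d⁻¹ * (wS c * up 1 * (wS c)⁻¹) * (hS d⁻¹)⁻¹ := by
      have e5 : (hS d : SL(2, K))⁻¹ * (wS c)⁻¹ = (wS c)⁻¹ * (hS d⁻¹)⁻¹ := by
        rw [← mul_inv_rev, e3, mul_inv_rev]
      calc (wS c : SL(2, K)) * (hS d * up 1 * (hS d)⁻¹) * (wS c)⁻¹
          = (wS c * hS d) * up 1 * ((hS d)⁻¹ * (wS c)⁻¹) := by group
        _ = _ := by rw [e3, e5]; group
    have e6 : Φ (up (d ^ 2 * 1)) = Φ (hS d⁻¹ * up 1 * (hS d⁻¹)⁻¹) := by
      rw [e1, ← e2, e4, map_mul, map_mul, ← hw 1, map_mul, map_mul]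
    rw [hS_mul_up (inv_ne_zero hd), mul_inv_cancel_right] at e6
    have e7 := hup (d ^ 2 * 1 + d⁻¹ ^ 2 * 1) (by
      rw [up_add, map_mul, e6, ← map_mul, ← up_add, CharTwo.add_self_eq_zero, up_zero, map_one])
    have e8 : d ^ 2 = d⁻¹ ^ 2 := by
      rw [mul_one, mul_one] at e7
      exact CharTwo.add_eq_zero.1 e7
    calc d ^ 4 = d ^ 2 * d ^ 2 := by ring
      _ = d ^ 2 * d⁻¹ ^ 2 := by rw [← e8]
      _ = 1 := by rw [← mul_pow, mul_inv_cancel₀ hd, one_pow]
  -- at most one fourth root of unity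
  have h4 : ∀ d : K, d ≠ 0 → d = 1 := by
    intro d hd
    have h5 : (d + 1) ^ 4 = 0 := by
      have h6 : (d + 1) ^ 4 = ((d + 1) ^ 2) ^ 2 := by ring
      rw [h6, CharTwo.add_sq, CharTwo.add_sq, ← pow_mul, h3 d hd, one_pow, one_pow, CharTwo.add_self_eq_zero]
    have h7 := pow_eq_zero_iff (n := 4) (by norm_num) |>.1 h5
    exact CharTwo.add_eq_zero.1 h7
  have h5 : Fintype.card K ≤ 2 := by
    classical
    have h6 : (Finset.univ : Finset K) ⊆ {0, 1} := by
      intro d _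
      rw [Finset.mem_insert, Finset.mem_singleton]
      by_cases hd : d = 0
      · exact Or.inl hd
      · exact Or.inr (h4 d hd)
    calc Fintype.card K = (Finset.univ : Finset K).card := rfl
      _ ≤ ({0, 1} : Finset K).card := Finset.card_le_card h6
      _ ≤ 2 := Finset.card_le_two
  omega

end Inj

/-! ### Existence of some elements -/

section Ex

variable {K : Type v} [Field K] [Fintype K] [CharP K 2] {e : ℕ}

theorem exists_root_ne {n : ℕ} (hn : 0 < n) (hlt : n + 1 < Fintype.card K) : ∃ c : K, c ≠ 0 ∧ c ^ n ≠ 1 := by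
  classical
  by_contra hcon
  push Not at hcon
  have h1 : (Finset.univ.erase (0 : K)) ⊆ (Polynomial.nthRoots n (1 : K)).toFinset := by
    intro c hc
    rw [Multiset.mem_toFinset, Polynomial.mem_nthRoots hn]
    exact hcon c (Finset.mem_erase.1 hc).1
  have h2 := Finset.card_le_card h1
  rw [Finset.card_erase_of_mem (Finset.mem_univ _), Finset.card_univ] at h2
  have h3 := (Multiset.toFinset_card_le (Polynomial.nthRoots n (1 : K))).trans (Polynomial.card_nthRoots n 1)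
  omega

theorem q_bound {q : ℕ} (hq : 2 ≤ q) : q ^ 2 + 2 < q ^ 4 ∧ q + 2 < q ^ 4 := by
  have h1 : q ^ 4 = q ^ 2 * q ^ 2 := by ring
  have h2 : 4 ≤ q ^ 2 := by nlinarith
  have h3 : q ≤ q ^ 2 := by nlinarith
  constructor <;> nlinarith

/-- an element of `F_{q²}` different from `0` and `1` -/
theorem exists_A (he : 0 < e) (hK : Fintype.card K = (2 ^ e) ^ 4) : ∃ A : K, A ≠ 0 ∧ A ≠ 1 ∧ A ^ 2 ^ (e * 2) = A := by
  have hq : 2 ≤ 2 ^ e := by
    calc 2 = 2 ^ 1 := rfl
      _ ≤ 2 ^ e := Nat.pow_le_pow_right (by norm_num) he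
  obtain ⟨b1, b2⟩ := q_bound hq
  obtain ⟨c, hc, h1⟩ := exists_root_ne (K := K) (n := (2 ^ e) ^ 2 + 1) (by omega) (by rw [hK]; omega)
  refine ⟨c ^ ((2 ^ e) ^ 2 + 1), pow_ne_zero _ hc, h1, ?_⟩
  rw [← pow_mul]
  have h2 : ((2 ^ e) ^ 2 + 1) * 2 ^ (e * 2) = Fintype.card K + (2 ^ e) ^ 2 := by
    rw [hK, ← pow_mul, ← pow_mul]
    ring
  rw [h2, pow_add, FiniteField.pow_card, pow_succ]
  ring

end Ex

/-! ### The main theorem -/

section Main

open Cfsg.Agent.H415.PG3

theorem fix_aux {F : Type u} [Field F] [Fintype F] {e : ℕ} (he : 0 < e) (hF : Fintype.card F = 2 ^ e) {r : ℕ}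
    (hr : r.Prime) (hr2 : r ≠ 2) {V : Type w} [AddCommGroup V] [Module (ZMod r) V] [Finite V] [Nontrivial V]
    (ρ : ↥(chevF4.group F) →* (V ≃ₗ[ZMod r] V)) :
    ∃ x : ↥(chevF4.group F), (orderOf x).Prime ∧ orderOf x ∣ (2 ^ e) ^ 4 + 1 ∧ ∃ v : V, v ≠ 0 ∧ ρ x v = v := by
  classical
  by_contra hcon
  push Not at hcon
  have := Fact.mk hr
  have hq : 2 ≤ 2 ^ e := by
    calc 2 = 2 ^ 1 := rfl
      _ ≤ 2 ^ e := Nat.pow_le_pow_right (by norm_num) he
  obtain ⟨b1, b2⟩ := q_bound hq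
  have : CharP F 2 := by
    obtain ⟨p, hp⟩ := CharP.exists F
    obtain ⟨m, hp', hm⟩ := FiniteField.card F p
    have h1 : p ∣ 2 ^ e := by rw [← hF, hm]; exact dvd_pow_self p m.ne_zero
    have h2 : p = 2 := (Nat.prime_dvd_prime_iff_eq hp' Nat.prime_two).1 (hp'.dvd_of_dvd_pow h1)
    rwa [h2] at hp
  have : CharP (AlgebraicClosure F) 2 := charP_of_injective_algebraMap (algebraMap F _).injective 2
  let K := FiniteField.Extension F 2 4
  let _ : Fintype K := Fintype.ofFinite K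
  have : CharP K 2 := charP_of_injective_algebraMap (algebraMap F K).injective 2
  have hK : Fintype.card K = (2 ^ e) ^ 4 := by
    rw [← hF, ← Nat.card_eq_fintype_card, ← Nat.card_eq_fintype_card]
    exact FiniteField.natCard_extension F 2 4
  have hfr : Module.finrank F K = 4 := FiniteField.finrank_extension F 2 4
  let f0 : K →ₐ[F] AlgebraicClosure F := IsAlgClosed.lift
  let f : K →+* AlgebraicClosure F := f0.toRingHom
  have hf : ∀ c : F, f (algebraMap F K c) = algebraMap F (AlgebraicClosure F) c := fun c => f0.commutes c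
  -- the embedding
  obtain ⟨θ, hθ⟩ := exists_theta (k := AlgebraicClosure F) Cfsg.Agent.Nodes.KindF.isType
    (CoxeterMatrix.toCoxeterSystem _) (p := 2) (e := e) he (algebraMap F (AlgebraicClosure F)) hF
    Cfsg.Agent.H129.TorusChar.invC_F4 (n := nwd hF4 wF) (nwd_mem hF4 wF)
  have hmem : ∀ {g : GL chevF4.Idx (AlgebraicClosure F)}, g ∈ chevF4.group _ → sg e g = g →
      g ∈ PF chevF4 (iterateFrobenius (AlgebraicClosure F) 2 e) (nwd hF4 wF) := fun h1 h2 => ⟨h1, h2⟩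
  let P := PF chevF4 (iterateFrobenius (AlgebraicClosure F) 2 e) (nwd hF4 wF)
  let Ψ : SL(2, K) →* ↥P := MonoidHom.mk' (fun g => ⟨uu e f g, hmem (uu_mem e f g) (uu_fix e f hK g)⟩)
    (fun g h => Subtype.ext (uu_mul e f g h))
  let X : F → ↥P := fun c => ⟨XX f c, hmem (XX_mem f c) (XX_fix e f hF c)⟩
  let y : K → ↥P := fun b => ⟨yy e f b, hmem (yy_mem e f b) (yy_fix e f hK b)⟩
  let z : K → ↥P := fun b => ⟨zz e f b, hmem (zz_mem e f b) (zz_fix e f hK b)⟩
  obtain ⟨A, hA0, hA1, hA⟩ := exists_A (K := K) he hK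
  have hAB : A + (1 + A) = 1 := by rw [add_left_comm, CharTwo.add_self_eq_zero, add_zero]
  have hB : (1 + A) ^ 2 ^ (e * 2) = 1 + A := by rw [add_pow_char_pow, one_pow, hA]
  have hB0 : 1 + A ≠ 0 := by
    intro h
    exact hA1 (CharTwo.add_eq_zero.1 h).symm
  let g : ↥P := ⟨gg e f (symM hAB), hmem (gg_mem e f _) (gg_fix e f hAB hA hB)⟩
  let L := ↥(chevF4.group F)
  let B : ↥P →* Module.End (ZMod r) V := (LinearEquiv.automorphismGroup.toLinearMapMonoidHom).comp (ρ.comp θ)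
  have hBa : ∀ x v, B x v = ρ (θ x) v := fun _ _ => rfl
  -- the prime
  obtain ⟨s, hs, hsd⟩ := Nat.exists_prime_and_dvd (n := (2 ^ e) ^ 4 + 1) (by omega)
  have hs2 : s ≠ 2 := by
    rintro rfl
    have h1 : 2 ∣ (2 ^ e) ^ 4 := dvd_pow (dvd_pow_self 2 he.ne') (by norm_num)
    have h2 := (Nat.dvd_add_right h1).1 hsd
    omega
  obtain ⟨t, ht, hlow⟩ := exists_elt (K := K) hs hs2 (by rw [hK]; exact hsd)
  have hts : t ^ s = 1 := by rw [← ht]; exact pow_orderOf_eq_one t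
  have hΨt : Ψ t ≠ 1 := by
    intro h
    have h1 := hlow 1 one_pos hs.one_lt
    rw [pow_one] at h1
    exact uu_eq_one e f (by rw [hK]; omega) h1 (congrArg Subtype.val h)
  have hθt : orderOf (θ (Ψ t)) = s := by
    rw [orderOf_injective θ hθ]
    have := Fact.mk hs
    exact orderOf_eq_prime (by rw [← map_pow, hts, map_one]) hΨt
  have hfpf : ∀ v, B (Ψ t) v = v → v = 0 := by
    intro v hv
    by_contra hv0
    exact hcon (θ (Ψ t)) (by rw [hθt]; exact hs) (by rw [hθt]; exact hsd) v hv0 hv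
  have h2r : ((2 : ℕ) : ZMod r) ≠ 0 := by
    rw [Ne, ZMod.natCast_eq_zero_iff]
    exact fun h => hr2 ((Nat.prime_dvd_prime_iff_eq hr Nat.prime_two).1 h)
  have hKr : (Fintype.card K : ZMod r) ≠ 0 := by
    rw [hK, Nat.cast_pow, Nat.cast_pow]
    exact pow_ne_zero _ (pow_ne_zero _ h2r)
  have hFr : (Fintype.card F : ZMod r) ≠ 0 := by
    rw [hF, Nat.cast_pow]
    exact pow_ne_zero _ h2r
  -- an element with nonzero trace
  have htrs := Algebra.trace_surjective F K
  obtain ⟨w, hw⟩ := htrs 1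
  obtain ⟨b, hb⟩ : ∃ b : K, b ^ 2 = w / (A * (1 + A)) := by
    obtain ⟨b, hb⟩ := (frobeniusEquiv K 2).surjective (w / (A * (1 + A)))
    exact ⟨b, hb⟩
  have hb1 : A * (1 + A) * b ^ 2 = w := by
    rw [hb, mul_div_cancel₀ _ (mul_ne_zero hA0 hB0)]
  have hgz := gg_zz (F := F) e f hF hK hfr hAB hA hB b
  rw [hb1, hw] at hgz
  -- the torus element
  obtain ⟨c0, hc0, hc1⟩ := exists_root_ne (K := K) (n := 1 + 2 ^ e) (by omega) (by rw [hK]; omega)
  have hmain : B (X 1) = 1 := by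
    refine trivial_of_dat (K := K) B hKr hFr Ψ hts hlow hs.pos hfpf X ?_ y
      (fun a => (Algebra.trace F K).toAddMonoidHom.comp (AddMonoidHom.mulLeft a)) ?_ ?_ (Set.range z) ?_ ?_ ?_ ?_
      (g := g) (r := z b) (r' := z (A * b + (1 + A) * b ^ 2 ^ (e * 2))) ?_ ⟨b, rfl⟩ ⟨_, rfl⟩ ?_
    · intro a b
      exact Subtype.ext (XX_add f a b)
    · intro b
      show Algebra.trace F K (0 * b) = 0
      rw [zero_mul, map_zero]
    · intro a ha c
      obtain ⟨w, hw⟩ := htrs c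
      refine ⟨w / a, ?_⟩
      show Algebra.trace F K (a * (w / a)) = c
      rw [mul_div_cancel₀ _ ha, hw]
    · rintro _ ⟨b, rfl⟩ a
      exact Subtype.ext (zz_uu e f b a).eq
    · rintro _ ⟨b, rfl⟩
      have h1 : c0 * c0 ^ 2 ^ e + 1 ≠ 0 := by
        intro h
        apply hc1
        rw [pow_add, pow_one]
        exact CharTwo.add_eq_zero.1 h
      refine ⟨z (b / (c0 * c0 ^ 2 ^ e + 1)), ⟨_, rfl⟩, c0, hc0, ?_⟩
      apply Subtype.ext
      show zz e f b * zz e f (b / (c0 * c0 ^ 2 ^ e + 1)) =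
        uu e f (hS c0) * zz e f (b / (c0 * c0 ^ 2 ^ e + 1)) * (uu e f (hS c0))⁻¹
      rw [uu_zz e f hK hc0, mul_inv_cancel_right, ← zz_add]
      congr 1
      have h2 : b = (c0 * c0 ^ 2 ^ e + 1) * (b / (c0 * c0 ^ 2 ^ e + 1)) := (mul_div_cancel₀ b h1).symm
      generalize b / (c0 * c0 ^ 2 ^ e + 1) = b' at h2 ⊢
      rw [h2, add_mul, one_mul, add_assoc, CharTwo.add_self_eq_zero, add_zero]
    · rintro _ ⟨b, rfl⟩ a
      exact Subtype.ext (zz_yy e f b a).eq
    · intro a b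
      exact Subtype.ext (yy_uu (F := F) e f hF hfr a b)
    · intro c
      exact Subtype.ext (gg_XX e f _ c).eq
    · exact Subtype.ext hgz
  -- conclusion
  have hX1 : θ (X 1) ≠ 1 := by
    intro h
    have h1 : X 1 = 1 := hθ (by rw [h, map_one])
    have h2 : XX (F := F) f 1 = 1 := congrArg Subtype.val h1
    unfold XX at h2
    rw [xG_eq_one_iff hF4 (show 46 < chevF4.nroots by decide), map_one, map_one] at h2
    exact one_ne_zero h2
  have hsimp : IsSimpleGroup ↥(chevF4.group F) := (Cfsg.Agent.S1054.result chevF4 (by simp)).1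
  have hker : ρ.ker = ⊤ := by
    rcases hsimp.eq_bot_or_eq_top_of_normal ρ.ker inferInstance with h | h
    · exfalso
      apply hX1
      rw [← Subgroup.mem_bot, ← h, MonoidHom.mem_ker]
      ext v
      have h1 : B (X 1) v = v := by rw [hmain]; rfl
      exact h1
    · exact h
  obtain ⟨v, hv⟩ := exists_ne (0 : V)
  apply hv
  apply hfpf
  have h1 : θ (Ψ t) ∈ ρ.ker := by rw [hker]; trivial
  rw [hBa, MonoidHom.mem_ker.1 h1]
  rfl

/-- **`Fix` for `F₄(q)`, `q` even, in characteristic `r ≠ 2`.** -/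
theorem fix_F4 {F : Type u} [Field F] [Fintype F] {q : ℕ} (hF : Fintype.card F = q) (hq : ∃ k : ℕ, 1 ≤ k ∧ q = 2 ^ k)
    {r : ℕ} (hr : r.Prime) (hr2 : r ≠ 2) : Cfsg.Agent.H415.PG3.Fix.{u, w} ↥(chevF4.group F) r ((q ^ 4 + 1) * (q ^ 4 - q ^ 2 + 1)) := by
  obtain ⟨e, he, rfl⟩ := hq
  intro V _ _ _ _ ρ
  obtain ⟨x, h1, h2, h3⟩ := fix_aux he hF hr hr2 ρ
  exact ⟨x, h1, h2.mul_right _, h3⟩

end Main

end Cfsg.Agent.H420.PG.F4
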