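import Cfsg.Agent.UGT.U2.FOne.SLInj

/-!
# Cross characteristic modules for `F₄(q)`, `q` even: the abstract part (helper420)

* `fix_diag` : let `SL₂(K)`, `|K|` even, act on `V` (characteristic not two) and let an element of prime order `s`,
  `s ∣ |K| + 1`, act fixed point freely. Then the diagonal matrices act trivially on the fixed points of `U`.
* `trivial_of_dat` : the final contradiction, for a configuration of subgroups as in `F₄(q)`.
-/

set_option autoImplicit false
set_option linter.unusedSectionVars false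

namespace Cfsg.Agent.H420.PG

open Cfsg.Agent.ChevalleyStructure.SL2Hom (up lo mem_closure_SL2)
open Cfsg.Agent.Nodes.RGDFoldSL Cfsg.Agent.UGT.U2.FOne.SLInj
open scoped MatrixGroups

variable {K : Type*} [Field K]

theorem wS_mul_hS {t h : K} (ht : t ≠ 0) (hh : h ≠ 0) : (wS t : SL(2, K)) * hS h = wS (t * h⁻¹) := by
  apply Subtype.ext
  rw [Matrix.SpecialLinearGroup.coe_mul, coe_wS ht, coe_hS hh, coe_wS (mul_ne_zero ht (inv_ne_zero hh))]
  ext i j
  fin_cases i <;> fin_cases j <;> simp [Matrix.mul_apply, Fin.sum_univ_two]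
  · ring

theorem hS_mul_wS {t h : K} (ht : t ≠ 0) (hh : h ≠ 0) : (hS h : SL(2, K)) * wS t = wS (h * t) := by
  apply Subtype.ext
  rw [Matrix.SpecialLinearGroup.coe_mul, coe_wS ht, coe_hS hh, coe_wS (mul_ne_zero hh ht)]
  ext i j
  fin_cases i <;> fin_cases j <;> simp [Matrix.mul_apply, Fin.sum_univ_two]
  · ring

theorem hS_mul_hS {t h : K} (ht : t ≠ 0) (hh : h ≠ 0) : (hS t : SL(2, K)) * hS h = hS (t * h) := by
  apply Subtype.ext
  rw [Matrix.SpecialLinearGroup.coe_mul, coe_hS ht, coe_hS hh, coe_hS (mul_ne_zero ht hh)]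
  ext i j
  fin_cases i <;> fin_cases j <;> simp [Matrix.mul_apply, Fin.sum_univ_two]
  · ring

theorem hS_inv {t : K} (ht : t ≠ 0) : (hS t : SL(2, K))⁻¹ = hS t⁻¹ := by
  rw [inv_eq_iff_mul_eq_one, hS_mul_hS ht (inv_ne_zero ht), mul_inv_cancel₀ ht, hS_one]

theorem hS_mul_up {t : K} (ht : t ≠ 0) (a : K) : (hS t : SL(2, K)) * up a = up (t ^ 2 * a) * hS t := by
  apply Subtype.ext
  rw [Matrix.SpecialLinearGroup.coe_mul, Matrix.SpecialLinearGroup.coe_mul, coe_hS ht]
  show !![t, 0; 0, t⁻¹] * (!![1, a; 0, 1] : Matrix (Fin 2) (Fin 2) K) = !![1, t ^ 2 * a; 0, 1] * !![t, 0; 0, t⁻¹]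
  ext i j
  fin_cases i <;> fin_cases j <;> simp [Matrix.mul_apply, Fin.sum_univ_two]
  · field_simp

/-- A sum over the powers of an element without fixed points is zero. -/
theorem sum_pow_eq_zero {𝕜 V : Type*} [Field 𝕜] [AddCommGroup V] [Module 𝕜 V] {f : Module.End 𝕜 V} {s : ℕ}
    (hs : f ^ s = 1) (hf : ∀ v, f v = v → v = 0) (v : V) : ∑ i ∈ Finset.range s, (f ^ i) v = 0 := by
  apply hf
  rw [map_sum]
  have h1 : ∀ i, f ((f ^ i) v) = (f ^ (i + 1)) v := fun i => by rw [pow_succ']; rfl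
  simp_rw [h1]
  have h2 := Finset.sum_range_succ' (fun i => (f ^ i) v) s
  rw [Finset.sum_range_succ, hs, pow_zero] at h2
  exact (add_right_cancel h2).symm

section Diag

variable {𝕜 V : Type*} [Field 𝕜] [AddCommGroup V] [Module 𝕜 V] (A : SL(2, K) →* Module.End 𝕜 V)

/-- the sum over `U` -/
noncomputable def EU [Fintype K] : Module.End 𝕜 V := ∑ a : K, A (up a)

theorem A_apply (g h : SL(2, K)) (v : V) : A (g * h) v = A g (A h v) := by rw [map_mul]; rfl

theorem EU_apply [Fintype K] (v : V) : EU A v = ∑ a : K, A (up a) v := by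
  rw [EU, LinearMap.sum_apply]

theorem EU_up [Fintype K] (a : K) (v : V) : EU A (A (up a) v) = EU A v := by
  rw [EU_apply, EU_apply]
  refine Fintype.sum_equiv (Equiv.addRight a) _ _ fun b => ?_
  rw [← A_apply, ← up_add]
  rfl

theorem up_EU [Fintype K] (a : K) (v : V) : A (up a) (EU A v) = EU A v := by
  rw [EU_apply, map_sum]
  refine Fintype.sum_equiv (Equiv.addLeft a) _ _ fun b => ?_
  rw [← A_apply, ← up_add]
  rfl

theorem EU_fix [Fintype K] {v : V} (hv : ∀ a, A (up a) v = v) : EU A v = (Fintype.card K : 𝕜) • v := by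
  rw [EU_apply, Finset.sum_congr rfl fun a _ => hv a, Finset.sum_const, Finset.card_univ, Nat.cast_smul_eq_nsmul]

theorem EU_hS [Fintype K] {t : K} (ht : t ≠ 0) (v : V) : EU A (A (hS t) v) = A (hS t) (EU A v) := by
  rw [EU_apply, EU_apply, map_sum]
  symm
  have h0 : t ^ 2 ≠ 0 := pow_ne_zero 2 ht
  refine Fintype.sum_equiv (Equiv.mulLeft₀ (t ^ 2) h0) _ _ fun b => ?_
  rw [← A_apply, hS_mul_up ht, A_apply]
  rfl

theorem fix_hS {v : V} (hv : ∀ a, A (up a) v = v) {t : K} (ht : t ≠ 0) (a : K) :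
    A (up a) (A (hS t) v) = A (hS t) v := by
  have h1 : (up a : SL(2, K)) * hS t = hS t * up ((t ^ 2)⁻¹ * a) := by
    rw [hS_mul_up ht, ← mul_assoc, mul_inv_cancel₀ (pow_ne_zero 2 ht), one_mul]
  rw [← A_apply, h1, A_apply, hv]

/-- **The diagonal matrices act trivially on the fixed points of `U`.** -/
theorem fix_diag [Fintype K] [CharP K 2] (hK : (Fintype.card K : 𝕜) ≠ 0) {t : SL(2, K)} {s : ℕ}
    (hs : t ^ s = 1) (ht : ∀ i, 0 < i → i < s → (t ^ i).1 1 0 ≠ 0) (hs0 : 0 < s)
    (hf : ∀ v, A t v = v → v = 0) {v : V} (hv : ∀ a, A (up a) v = v) {c : K} (hc : c ≠ 0) : A (hS c) v = v := by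
  have hb : ∀ i, ∃ x c y : K, 0 < i → i < s → c ≠ 0 ∧ t ^ i = up x * wS c * up y := by
    intro i
    by_cases h : 0 < i ∧ i < s
    · obtain ⟨x, c, y, h1⟩ := bruhat (t ^ i) (ht i h.1 h.2)
      exact ⟨x, c, y, fun _ _ => h1⟩
    · exact ⟨0, 0, 0, fun h1 h2 => absurd ⟨h1, h2⟩ h⟩
  choose x d y hd using hb
  obtain ⟨s, rfl⟩ : ∃ n, s = n + 1 := ⟨s - 1, by omega⟩
  -- the basic relation
  have hR : ∀ w : V, (∀ a, A (up a) w = w) →
      (Fintype.card K : 𝕜) • w + ∑ i ∈ Finset.range s, EU A (A (wS (d (i + 1))) w) = 0 := by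
    intro w hw
    have h1 := sum_pow_eq_zero (f := A t) (s := s + 1) (by rw [← map_pow, hs, map_one]) hf w
    rw [Finset.sum_range_succ', pow_zero] at h1
    have h2 := congrArg (EU A) h1
    rw [map_add, map_zero, Module.End.one_apply, EU_fix A hw, map_sum, add_comm] at h2
    rw [← h2]
    congr 1
    refine Finset.sum_congr rfl fun i hi => ?_
    rw [Finset.mem_range] at hi
    rw [← map_pow, (hd (i + 1) (by omega) (by omega)).2, A_apply, A_apply, hw, EU_up]
  have hd0 : ∀ i ∈ Finset.range s, d (i + 1) ≠ 0 := fun i hi =>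
    (hd (i + 1) (by omega) (by have := Finset.mem_range.1 hi; omega)).1
  -- `c = g⁻²`
  obtain ⟨g, hg⟩ : ∃ g : K, g ^ 2 = c⁻¹ := by
    obtain ⟨g, hg⟩ := (frobeniusEquiv K 2).surjective c⁻¹
    exact ⟨g, hg⟩
  have hg0 : g ≠ 0 := by
    rintro rfl
    rw [zero_pow two_ne_zero] at hg
    exact inv_ne_zero hc hg.symm
  have h1 := hR (A (hS c) v) (fix_hS A hv hc)
  have h2 := congrArg (A (hS g)) (hR (A (hS g⁻¹) v) (fix_hS A hv (inv_ne_zero hg0)))
  rw [map_add, map_smul, map_zero, map_sum, ← A_apply, hS_mul_hS hg0 (inv_ne_zero hg0), mul_inv_cancel₀ hg0, hS_one,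
    map_one, Module.End.one_apply] at h2
  have h3 : ∑ i ∈ Finset.range s, (A (hS g)) (EU A (A (wS (d (i + 1))) (A (hS g⁻¹) v))) =
      ∑ i ∈ Finset.range s, EU A (A (wS (d (i + 1))) (A (hS c) v)) := by
    refine Finset.sum_congr rfl fun i hi => ?_
    have h4 := hd0 i hi
    rw [← EU_hS A hg0]
    simp only [← A_apply]
    congr 3
    rw [← mul_assoc, hS_mul_wS h4 hg0, wS_mul_hS (mul_ne_zero hg0 h4) (inv_ne_zero hg0), wS_mul_hS h4 hc, inv_inv,
      ← hg]
    congr 1
    ring
  rw [h3] at h2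
  have h5 : (Fintype.card K : 𝕜) • v = (Fintype.card K : 𝕜) • A (hS c) v :=
    add_right_cancel (h2.trans h1.symm)
  exact (smul_right_injective V hK h5).symm

end Diag

section Fin

variable {𝕜 V : Type*} [Field 𝕜] [AddCommGroup V] [Module 𝕜 V] {G : Type*} [Group G] (A : G →* Module.End 𝕜 V)

/-- **The abstract form of the argument.** -/
theorem trivial_of_dat [Fintype K] [CharP K 2] {F : Type*} [AddCommGroup F] [Fintype F]
    (hK : (Fintype.card K : 𝕜) ≠ 0) (hF : (Fintype.card F : 𝕜) ≠ 0) (Ψ : SL(2, K) →* G) {t : SL(2, K)} {s : ℕ}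
    (hs : t ^ s = 1) (ht : ∀ i, 0 < i → i < s → (t ^ i).1 1 0 ≠ 0) (hs0 : 0 < s)
    (hf : ∀ v, A (Ψ t) v = v → v = 0) (X : F → G) (hX : ∀ a b, X (a + b) = X a * X b) (y : K → G) (τ : K → K →+ F)
    (hτ0 : ∀ b, τ 0 b = 0) (hτ : ∀ a, a ≠ 0 → Function.Surjective (τ a)) (R : Set G)
    (hRU : ∀ r ∈ R, ∀ a, Commute r (Ψ (up a)))
    (hRC : ∀ r ∈ R, ∃ r' ∈ R, ∃ c : K, c ≠ 0 ∧ r * r' = Ψ (hS c) * r' * (Ψ (hS c))⁻¹)
    (hRy : ∀ r ∈ R, ∀ b, Commute r (y b)) (hyu : ∀ a b, y b * Ψ (up a) = Ψ (up a) * X (τ a b) * y b)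
    {g r r' : G} (hg : ∀ c, Commute g (X c)) (hr : r ∈ R) (hr' : r' ∈ R) {c : F} (hc : g * r = r' * X c * g) :
    A (X c) = 1 := by
  classical
  have hap : ∀ (g h : G) (v : V), A (g * h) v = A g (A h v) := fun g h v => by rw [map_mul]; rfl
  have hinv : ∀ (g : G) (v : V), A g (A g⁻¹ v) = v := fun g v => by rw [← hap, mul_inv_cancel, map_one]; rfl
  have hinv' : ∀ (g : G) (v : V), A g⁻¹ (A g v) = v := fun g v => by rw [← hap, inv_mul_cancel, map_one]; rfl
  set B : SL(2, K) →* Module.End 𝕜 V := A.comp Ψ with hB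
  have hBa : ∀ g, B g = A (Ψ g) := fun _ => rfl
  have hX0 : X 0 = 1 := by
    have h1 := hX 0 0
    rw [add_zero] at h1
    exact left_eq_mul.1 h1
  -- `R` acts trivially on the fixed points of `U`
  have h1 : ∀ r ∈ R, ∀ v, (∀ a, B (up a) v = v) → A r v = v := by
    intro r hr v hv
    obtain ⟨r', hr', c, hc, h2⟩ := hRC r hr
    have h3 : ∀ a, B (up a) (A r'⁻¹ v) = A r'⁻¹ v := by
      intro a
      rw [hBa, ← hap, ← ((hRU r' hr' a).inv_left).eq, hap, ← hBa, hv]
    have h4 := fix_diag B hK hs ht hs0 hf hv hc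
    have h5 := fix_diag B hK hs ht hs0 hf h3 hc
    have h6 : r = Ψ (hS c) * r' * (Ψ (hS c))⁻¹ * r'⁻¹ := by rw [← h2, mul_inv_cancel_right]
    rw [h6, hap, hap, hap]
    have h7 : A (Ψ (hS c))⁻¹ (A r'⁻¹ v) = A r'⁻¹ v := by
      conv_lhs => rw [← h5]
      rw [hBa, hinv']
    rw [h7, hinv, ← hBa, h4]
  -- `R` acts trivially on `[V, X]`
  have h2 : ∀ r ∈ R, ∀ v, ∑ c : F, A (X c) v = 0 → A r v = v := by
    intro r hr v hv
    have h3 : ∑ b : K, A (y b) (EU B (A (y b)⁻¹ v)) = (Fintype.card K : 𝕜) • v := by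
      have h4 : ∀ b, A (y b) (EU B (A (y b)⁻¹ v)) = ∑ a : K, B (up a) (A (X (τ a b)) v) := by
        intro b
        rw [EU_apply, map_sum]
        refine Finset.sum_congr rfl fun a _ => ?_
        rw [hBa, ← hap, hyu, hap, hinv, hap]
      simp_rw [h4]
      rw [Finset.sum_comm]
      have h5 : ∀ a : K, ∑ b : K, B (up a) (A (X (τ a b)) v) = if a = 0 then (Fintype.card K : 𝕜) • v else 0 := by
        intro a
        rw [← map_sum]
        by_cases ha : a = 0
        · rw [if_pos ha, ha]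
          simp_rw [hτ0, hX0, map_one]
          rw [up_zero, map_one]
          simp [Nat.cast_smul_eq_nsmul]
        · rw [if_neg ha]
          have h6 : ∑ b : K, A (X (τ a b)) v = 0 := by
            have hfib : ∀ c : F, ((Finset.univ.filter fun b : K => τ a b = c).card) =
                (Finset.univ.filter fun b : K => τ a b = 0).card := by
              intro c
              obtain ⟨b0, hb0⟩ := hτ a ha c
              refine Finset.card_bij (fun b _ => b - b0) ?_ ?_ ?_
              · intro b hb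
                rw [Finset.mem_filter] at hb ⊢
                refine ⟨Finset.mem_univ _, ?_⟩
                rw [map_sub, hb.2, hb0, sub_self]
              · intro b _ b' _ h
                exact sub_left_injective h
              · intro b hb
                rw [Finset.mem_filter] at hb
                refine ⟨b + b0, ?_, add_sub_cancel_right b b0⟩
                rw [Finset.mem_filter]
                refine ⟨Finset.mem_univ _, ?_⟩
                rw [map_add, hb.2, hb0, zero_add]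
            rw [← Finset.sum_fiberwise_of_maps_to (s := Finset.univ) (t := Finset.univ) (g := fun b => τ a b)
              (fun _ _ => Finset.mem_univ _)]
            have h7 : ∀ c ∈ (Finset.univ : Finset F), ∑ b ∈ Finset.univ.filter (fun b : K => τ a b = c),
                A (X (τ a b)) v = (Finset.univ.filter fun b : K => τ a b = 0).card • A (X c) v := by
              intro c _
              rw [← hfib c, ← Finset.sum_const]
              refine Finset.sum_congr rfl fun b hb => ?_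
              rw [(Finset.mem_filter.1 hb).2]
            rw [Finset.sum_congr rfl h7, ← Finset.smul_sum, hv, smul_zero]
          rw [h6, map_zero]
      rw [Finset.sum_congr rfl fun a _ => h5 a, Finset.sum_ite_eq' Finset.univ (0 : K), if_pos (Finset.mem_univ _)]
    have h4 : A r ((Fintype.card K : 𝕜) • v) = (Fintype.card K : 𝕜) • v := by
      rw [← h3, map_sum]
      refine Finset.sum_congr rfl fun b _ => ?_
      rw [← hap, (hRy r hr b).eq, hap, h1 r hr _ fun a => up_EU B a _]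
    rw [map_smul] at h4
    exact smul_right_injective V hK h4
  -- conclusion
  have hXc : ∀ c v, ∑ d : F, A (X d) (A (X c) v) = ∑ d : F, A (X d) v := by
    intro c v
    refine Fintype.sum_equiv (Equiv.addRight c) _ _ fun d => ?_
    rw [← hap, ← hX]
    rfl
  have hXc' : ∀ c v, A (X c) (∑ d : F, A (X d) v) = ∑ d : F, A (X d) v := by
    intro c v
    rw [map_sum]
    refine Fintype.sum_equiv (Equiv.addLeft c) _ _ fun d => ?_
    rw [← hap, ← hX]
    rfl
  ext v
  rw [Module.End.one_apply]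
  set w := ∑ d : F, A (X d) v with hw
  have hw1 : A (X c) w = w := hXc' c v
  set u := (Fintype.card F : 𝕜) • v - w with hu
  have hu0 : ∑ d : F, A (X d) u = 0 := by
    simp_rw [hu, map_sub, map_smul]
    rw [Finset.sum_sub_distrib, ← Finset.smul_sum, ← hw]
    simp_rw [hw, hXc']
    rw [Finset.sum_const, Finset.card_univ, Nat.cast_smul_eq_nsmul, sub_self]
  have hgu : ∑ d : F, A (X d) (A g⁻¹ u) = 0 := by
    have h3 : ∀ d, A (X d) (A g⁻¹ u) = A g⁻¹ (A (X d) u) := by
      intro d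
      rw [← hap, ← ((hg d).inv_left).eq, hap]
    simp_rw [h3]
    rw [← map_sum, hu0, map_zero]
  have h3 : A (X c) u = u := by
    have h4 : X c = r'⁻¹ * (g * (r * g⁻¹)) := by
      rw [← mul_assoc g, hc]
      group
    rw [h4, hap, hap, hap, h2 r hr _ hgu, hinv]
    have h5 := h2 r' hr' u hu0
    conv_lhs => rw [← h5]
    rw [hinv']
  have h4 : (Fintype.card F : 𝕜) • A (X c) v = (Fintype.card F : 𝕜) • v := by
    have h5 : (Fintype.card F : 𝕜) • v = u + w := by rw [hu, sub_add_cancel]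
    rw [← map_smul, h5, map_add, h3, hw1]
  exact smul_right_injective V hF h4

end Fin

end Cfsg.Agent.H420.PG
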