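import Cfsg.Agent.H129.TorusUntw

/-!
# Twisted forms inside an untwisted group (helper420)

* `PF D φ n` : the fixed points in `D.group k` of `g ↦ n φ(g) n⁻¹`, `φ` a Frobenius map.
* `exists_theta` : by Lang's theorem they embed in `D.group F`, `F` the fixed field of `φ`, if the inverse Cartan matrix
  is integral (`G₂`, `F₄`, `E₈`).
-/

set_option autoImplicit false
set_option linter.unusedSectionVars false

namespace Cfsg.Agent.H420.PG

open CoxeterSystem Cfsg Cfsg.Lie Cfsg.Lie.ChevalleyDatum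
open Cfsg.Agent.ChevalleyStructure Cfsg.Agent.ChevalleyStructure.Elts Cfsg.Agent.ChevalleyStructure.CoxeterGeom
  Cfsg.Agent.ChevalleyStructure.CoxeterGeomTypes Cfsg.Agent.ChevalleyStructure.NPerm
open Cfsg.Agent.Tits.Roots Cfsg.Agent.Tits.Core Cfsg.Agent.Nodes Cfsg.Agent.Nodes.Reps Cfsg.Agent.Nodes.BNOf
  Cfsg.Agent.Nodes.RGDChev Cfsg.Agent.Nodes.Bruhat Cfsg.Agent.Nodes.SubComb Cfsg.Agent.Nodes.Coroot
open Cfsg.Agent.KFacts.RgdField Cfsg.Agent.KFacts.RgdChevCoord Cfsg.Agent.BpExc.TorCent Cfsg.Agent.BpExc.TorChev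
open Cfsg.Agent.GpExc.Field Cfsg.Agent.BpExc.Tow Cfsg.Agent.BpExc.TowChev Cfsg.Agent.BpExc.Fr
  Cfsg.Agent.BpExc.LangFr Cfsg.Agent.LangThm Cfsg.Agent.BpExc Cfsg.Agent.H129.TorusChar Cfsg.Agent.H129.TorusCent
  Cfsg.Agent.H129.TorusTw Cfsg.Agent.H129.TorusMain Cfsg.Agent.H129.TorusUntw

universe u

section PF

variable {k : Type u} [Field k] (D : ChevalleyDatum) (φ : k →+* k) (n : GL D.Idx k)

/-- the twisted Frobenius map -/
noncomputable def tsig : GL D.Idx k →* GL D.Idx k := (MulAut.conj n).toMonoidHom.comp (glMap D φ)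

theorem tsig_apply (g : GL D.Idx k) : tsig D φ n g = n * glMap D φ g * n⁻¹ := rfl

/-- its fixed points -/
noncomputable def PF : Subgroup (GL D.Idx k) := D.group k ⊓ (tsig D φ n).eqLocus (MonoidHom.id _)

variable {D φ n}

theorem mem_PF {g : GL D.Idx k} : g ∈ PF D φ n ↔ g ∈ D.group k ∧ tsig D φ n g = g := Iff.rfl

end PF

variable {D : ChevalleyDatum} {l : ℕ} {M : CoxeterMatrix (Fin l)} (hp : IsType D l M) {k : Type u} [Field k]
  {W : Type*} [Group W] (cs : CoxeterSystem M W) {p e : ℕ} [Fact p.Prime] [CharP k p]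

include hp cs in
/-- **The fixed points of a twisted Frobenius map embed in `D.group F`.** -/
theorem exists_theta [IsAlgClosed k] (he : 0 < e) {F : Type u} [Field F] [Fintype F] (f : F →+* k)
    (hq : Fintype.card F = p ^ e) {B : Fin l → Fin l → ℤ} (hB : InvC D l 1 B) {n : GL D.Idx k} (hn : n ∈ D.group k) :
    ∃ θ : ↥(PF D (iterateFrobenius k p e) n) →* ↥(D.group F), Function.Injective θ := by
  obtain ⟨z, hz⟩ := lang_all hp cs he (isFrob_phi (k := k) (D := D) (p := p) (e := e)) (fr_phi hp cs) 1 ⟨n, hn⟩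
  rw [map_one, one_mul] at hz
  let ι : ↥(PF D (iterateFrobenius k p e) n) →* ↥(D.group k) := Subgroup.inclusion inf_le_left
  let c : ↥(PF D (iterateFrobenius k p e) n) →* ↥(D.group k) := (MulAut.conj z).toMonoidHom.comp ι
  have hc : ∀ g, c g = z * ι g * z⁻¹ := fun _ => rfl
  have hfix : ∀ g, phi D k p e (c g) = c g := by
    intro g
    rw [hc]
    refine conj_fixed (n := ⟨n, hn⟩) (t := ι g) hz ?_ (Subgroup.mem_zpowers _)
    apply Subtype.ext
    rw [phi_eq hp]
    exact (mem_PF.1 g.2).2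
  have hr : ∀ g, c g ∈ (emb hp.inList f).range := fun g =>
    fix_range hp cs f hq hB one_ne_zero (fun a => ⟨a, pow_one a⟩) (hfix g)
  refine ⟨(MonoidHom.ofInjective (emb_injective hp.inList f)).symm.toMonoidHom.comp (c.codRestrict _ hr), ?_⟩
  intro a b hab
  have h1 : c.codRestrict _ hr a = c.codRestrict _ hr b :=
    (MonoidHom.ofInjective (emb_injective hp.inList f)).symm.injective hab
  have h2 : c a = c b := congrArg Subtype.val h1
  have h3 : ι a = ι b := by
    rw [hc, hc] at h2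
    exact mul_left_cancel (mul_right_cancel h2)
  exact Subgroup.inclusion_injective _ h3

end Cfsg.Agent.H420.PG
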