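import Cfsg.Agent.H420.PG.CharTwo
import Cfsg.Agent.H420.PG.SLT
import Cfsg.Agent.H420.PG.Tw
import Cfsg.Agent.Nodes.KindF
import Mathlib.FieldTheory.Finite.Extension
import Mathlib.FieldTheory.Finite.Trace

/-!
# The subgroup `SL₂(q⁴)` of `F₄(q)`, `q` even, and its neighbourhood (helper420)

Everything happens in the fixed points of `g ↦ n φ(g) n⁻¹` in `F₄(k)`, where `n` represents the Weyl group element which
permutes four orthogonal long roots cyclically.
-/

set_option autoImplicit false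
set_option linter.unusedSectionVars false

namespace Cfsg.Agent.H420.PG.F4

open Cfsg.Lie Cfsg.Agent.ChevalleyStructure Cfsg.Agent.ChevalleyStructure.Elts
open Cfsg.Agent.ChevalleyStructure.SL2Hom (up lo mem_closure_SL2)
open Cfsg.Agent.Nodes.RGDFoldSL
open Cfsg.Agent.UGT.U2.FOne.SLInj (up_zero up_add hS_one bruhat)
open Cfsg.Agent.GpExc.Field (glMap coe_glMap glMap_xG)
open scoped MatrixGroups

universe u v

theorem hF4 : InList chevF4 := by simp

/-- the word of the Weyl group element -/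
def wF : List ℕ := [3, 2, 1, 2, 3, 0, 1]

/-- the permutation of the roots -/
def W (s : ℕ) : ℕ := wF.foldr chevF4.reflectRoot s

theorem wF_lt : ∀ i ∈ wF, i < chevF4.rank := by decide +kernel

theorem tabW : [41, 30, 25, 47, 37, 28, 39, 44, 32, 43, 45, 23, 46, 21, 5, 26].map W =
    [30, 25, 47, 41, 28, 39, 44, 37, 43, 45, 23, 32, 46, 5, 26, 42] := by decide +kernel

theorem tabN : ∀ r ∈ [41, 30, 25, 47, 21, 5], chevF4.neg (W r) = W (chevF4.neg r) ∧ W r < 48 := by decide +kernel

theorem tabUU : [(41, 30), (41, 25), (41, 47), (30, 25), (30, 47), (25, 47), (21, 5)].all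
    (fun p => okP chevF4 p.1 p.2) = true := by decide +kernel

/-- short roots commute with each other -/
theorem tabZZ : [37, 28, 39, 44].all (fun r => [37, 28, 39, 44].all fun s => r == s || okB chevF4 r s []) = true := by
  decide +kernel

theorem tabZU : [37, 28, 39, 44, 46].all (fun s => [41, 30, 25, 47].all fun r => okB chevF4 r s []) = true := by
  decide +kernel

theorem tabZY : [37, 28, 39, 44, 46].all (fun s => [32, 43, 45, 23].all fun r => okB chevF4 r s []) = true := by
  decide +kernel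

theorem tabYY : [32, 43, 45, 23].all (fun r => [32, 43, 45, 23].all fun s => r == s || okB chevF4 r s []) = true := by
  decide +kernel

/-- the commutators of `U` and `Y` -/
theorem tabUY : ((List.range 4).all fun i => (List.range 4).all fun j =>
    okB chevF4 ([41, 30, 25, 47].getD i 0) ([32, 43, 45, 23].getD j 0) (if i = j then [(46, 1, 1)] else [])) = true := by
  decide +kernel

theorem tabM : (okM chevF4 41 37 14 30 && (okM chevF4 30 37 33 41 && (okM chevF4 30 28 20 25 && (okM chevF4 25 28 27 30 &&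
    (okM chevF4 25 39 38 47 && (okM chevF4 47 39 9 25 && (okM chevF4 47 44 18 41 && (okM chevF4 41 44 29 47 &&
    (okM chevF4 21 37 39 46 && okM chevF4 5 28 44 46))))))))) = true := by decide +kernel

/-- the orthogonal pairs -/
theorem tabQ : [(25, 37), (47, 37), (41, 28), (47, 28), (41, 39), (30, 39), (30, 44), (25, 44), (21, 28), (21, 44),
    (5, 37), (5, 39), (21, 46), (5, 46)].all (fun p => okQ chevF4 p.1 p.2) = true := by decide +kernel

/-! ### Group theoretic lemmas -/

section Grp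

variable {G : Type*} [Group G]

theorem q_left {y a b c : G} (h : Commute y a) (h2 : y * b = b * y * c) : y * (a * b) = a * b * y * c := by
  rw [← mul_assoc, h.eq, mul_assoc, h2]
  simp only [mul_assoc]

theorem q_right {y a b c : G} (h : y * a = a * y * c) (h2 : Commute y b) (h3 : Commute c b) :
    y * (a * b) = a * b * y * c := by
  rw [← mul_assoc, h, mul_assoc, h3.eq]
  simp only [mul_assoc]
  rw [← mul_assoc y b, h2.eq]
  simp only [mul_assoc]

theorem q_mul {y y' u c c' : G} (h : y * u = u * y * c) (h2 : y' * u = u * y' * c') (h3 : Commute c y') :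
    y * y' * u = u * (y * y') * (c * c') := by
  rw [mul_assoc, h2]
  simp only [← mul_assoc]
  rw [h]
  simp only [mul_assoc]
  rw [← mul_assoc c y', h3.eq]
  simp only [mul_assoc]

end Grp

/-! ### The field embeddings -/

section Fld

variable {k : Type u} {K : Type v} [Field k] [Field K] [CharP K 2] (e : ℕ) (f : K →+* k)

/-- the conjugates of the embedding -/
noncomputable def fr (i : ℕ) : K →+* k := f.comp (iterateFrobenius K 2 (e * i))

theorem fr_apply (i : ℕ) (a : K) : fr e f i a = f (a ^ 2 ^ (e * i)) := rfl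

theorem fr_zero (a : K) : fr e f 0 a = f a := by rw [fr_apply, mul_zero, pow_zero, pow_one]

theorem fr_succ [CharP k 2] (i : ℕ) (a : K) : iterateFrobenius k 2 e (fr e f i a) = fr e f (i + 1) a := by
  rw [iterateFrobenius_def, fr_apply, fr_apply, ← map_pow, ← pow_mul, ← pow_add, mul_add, mul_one]

theorem fr_comp [CharP k 2] (i : ℕ) : (iterateFrobenius k 2 e).comp (fr e f i) = fr e f (i + 1) := by
  ext a
  exact fr_succ e f i a

theorem fr_four [Fintype K] (hK : Fintype.card K = (2 ^ e) ^ 4) : fr e f 4 = fr e f 0 := by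
  ext a
  rw [fr_apply, fr_zero, pow_mul, ← hK, FiniteField.pow_card]

theorem fr_add_two {a : K} (ha : a ^ 2 ^ (e * 2) = a) (i : ℕ) : fr e f (i + 2) a = fr e f i a := by
  rw [fr_apply, fr_apply, mul_add, pow_add, mul_comm (2 ^ (e * i)), pow_mul, ha]

end Fld

/-! ### The elements -/

section Real

variable {k : Type u} {K : Type v} [Field k] [Field K] [CharP K 2] [CharP k 2] (e : ℕ) (f : K →+* k)

/-- the twisted Frobenius map -/
noncomputable def sg : GL chevF4.Idx k →* GL chevF4.Idx k := tsig chevF4 (iterateFrobenius k 2 e) (nwd hF4 wF)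

theorem sg_x {s : ℕ} (hs : s < 48) (t : k) : sg e (xG hF4 s t) = xG hF4 (W s) (iterateFrobenius k 2 e t) := by
  rw [sg, tsig_apply, glMap_xG]
  exact (nwd_conj hF4 wF_lt (show s < chevF4.nroots from hs) _).1

theorem W_eq : W 41 = 30 ∧ W 30 = 25 ∧ W 25 = 47 ∧ W 47 = 41 ∧ W 37 = 28 ∧ W 28 = 39 ∧ W 39 = 44 ∧ W 44 = 37 ∧
    W 32 = 43 ∧ W 43 = 45 ∧ W 45 = 23 ∧ W 23 = 32 ∧ W 46 = 46 ∧ W 21 = 5 ∧ W 5 = 26 ∧ W 26 = 42 := by
  have h := tabW
  simp only [List.map_cons, List.map_nil, List.cons.injEq, and_true] at h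
  exact h

theorem neg_lt48 {r : ℕ} (hr : r < 48) : chevF4.neg r < 48 := NPerm.neg_lt hF4 (show r < chevF4.nroots from hr)

theorem sg_ps {r : ℕ} (h : r ∈ [41, 30, 25, 47, 21, 5]) (g : SL(2, k)) :
    sg e (psi hF4 k r g) = psi hF4 k (W r) (Matrix.SpecialLinearGroup.map (iterateFrobenius k 2 e) g) := by
  have hr : r < 48 := by
    simp only [List.mem_cons, List.not_mem_nil, or_false] at h
    omega
  obtain ⟨h1, h2⟩ := tabN r h
  exact tsig_psi hF4 (show r < chevF4.nroots from hr) (show W r < chevF4.nroots from h2) h1 (sg_x e hr)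
    (sg_x e (neg_lt48 hr)) g

theorem map_fr (i : ℕ) (g : SL(2, K)) :
    Matrix.SpecialLinearGroup.map (iterateFrobenius k 2 e) (Matrix.SpecialLinearGroup.map (fr e f i) g) =
      Matrix.SpecialLinearGroup.map (fr e f (i + 1)) g := by
  apply Subtype.ext
  ext a b
  exact fr_succ e f i _

/-- commuting root `SL₂`s -/
theorem ps_comm {r s : ℕ} (h : (r, s) ∈ [(41, 30), (41, 25), (41, 47), (30, 25), (30, 47), (25, 47), (21, 5)])
    (g g' : SL(2, k)) : Commute (psi hF4 k r g) (psi hF4 k s g') := by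
  have h1 := List.all_eq_true.1 tabUU _ h
  exact psi_comm_psi hF4 h1 g g'

/-- the image of `SL₂(K)` -/
noncomputable def uu (g : SL(2, K)) : GL chevF4.Idx k :=
  psi hF4 k 41 (Matrix.SpecialLinearGroup.map (fr e f 0) g) * psi hF4 k 30 (Matrix.SpecialLinearGroup.map (fr e f 1) g) *
    psi hF4 k 25 (Matrix.SpecialLinearGroup.map (fr e f 2) g) * psi hF4 k 47 (Matrix.SpecialLinearGroup.map (fr e f 3) g)

theorem uu_mul (g h : SL(2, K)) : uu e f (g * h) = uu e f g * uu e f h := by
  unfold uu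
  simp only [map_mul]
  have c1 := ps_comm (k := k) (r := 41) (s := 30) (by simp)
  have c2 := ps_comm (k := k) (r := 41) (s := 25) (by simp)
  have c3 := ps_comm (k := k) (r := 41) (s := 47) (by simp)
  have c4 := ps_comm (k := k) (r := 30) (s := 25) (by simp)
  have c5 := ps_comm (k := k) (r := 30) (s := 47) (by simp)
  have c6 := ps_comm (k := k) (r := 25) (s := 47) (by simp)
  rw [(c1 _ _).mul_mul_mul_comm, ((c2 _ _).mul_left (c4 _ _)).mul_mul_mul_comm,
    (((c3 _ _).mul_left (c5 _ _)).mul_left (c6 _ _)).mul_mul_mul_comm]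

theorem uu_fix [Fintype K] (hK : Fintype.card K = (2 ^ e) ^ 4) (g : SL(2, K)) : sg e (uu e f g) = uu e f g := by
  obtain ⟨w1, w2, w3, w4, -⟩ := W_eq
  unfold uu
  rw [map_mul, map_mul, map_mul, sg_ps e (by simp), sg_ps e (by simp), sg_ps e (by simp), sg_ps e (by simp), w1, w2, w3,
    w4, map_fr, map_fr, map_fr, map_fr, zero_add, one_add_one_eq_two, two_add_one_eq_three, three_add_one_eq_four,
    fr_four e f hK]
  have c1 := ps_comm (k := k) (r := 41) (s := 30) (by simp)
  have c2 := ps_comm (k := k) (r := 41) (s := 25) (by simp)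
  have c3 := ps_comm (k := k) (r := 41) (s := 47) (by simp)
  rw [(((c1 _ _).mul_right (c2 _ _)).mul_right (c3 _ _)).symm.eq]
  simp only [mul_assoc]

theorem psi_mem_group {r : ℕ} (hr : r < 48) (g : SL(2, k)) : psi hF4 k r g ∈ chevF4.group k := by
  have h1 := psi_mem hF4 (show r < chevF4.nroots from hr) g
  refine (sup_le ?_ ?_ : chevF4.rootSubgroup k r ⊔ chevF4.rootSubgroup k (chevF4.neg r) ≤ chevF4.group k) h1
  · intro x hx
    obtain ⟨t, rfl⟩ := (mem_rootSubgroup_iff hF4 r x).1 hx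
    exact xG_mem_group hF4 r t
  · intro x hx
    obtain ⟨t, rfl⟩ := (mem_rootSubgroup_iff hF4 _ x).1 hx
    exact xG_mem_group hF4 _ t

theorem uu_mem (g : SL(2, K)) : uu e f g ∈ chevF4.group k :=
  mul_mem (mul_mem (mul_mem (psi_mem_group (by norm_num) _) (psi_mem_group (by norm_num) _))
    (psi_mem_group (by norm_num) _)) (psi_mem_group (by norm_num) _)

theorem uu_up (a : K) : uu e f (up a) = xG hF4 41 (fr e f 0 a) * xG hF4 30 (fr e f 1 a) * xG hF4 25 (fr e f 2 a) *
    xG hF4 47 (fr e f 3 a) := by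
  unfold uu
  simp only [map_up]
  rw [psi_up hF4 (show 41 < 48 by norm_num), psi_up hF4 (show 30 < 48 by norm_num),
    psi_up hF4 (show 25 < 48 by norm_num), psi_up hF4 (show 47 < 48 by norm_num)]

/-- the elements of `R` -/
noncomputable def zz (b : K) : GL chevF4.Idx k :=
  (xG hF4 37 (fr e f 0 b) * xG hF4 39 (fr e f 2 b)) * (xG hF4 28 (fr e f 1 b) * xG hF4 44 (fr e f 3 b))

theorem z_comm {r s : ℕ} (hr : r ∈ [37, 28, 39, 44]) (hs : s ∈ [37, 28, 39, 44]) (t u : k) :
    Commute (xG hF4 r t) (xG hF4 s u) := by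
  have h1 := List.all_eq_true.1 (List.all_eq_true.1 tabZZ _ hr) _ hs
  rw [Bool.or_eq_true] at h1
  rcases h1 with h1 | h1
  · rw [beq_iff_eq] at h1
    subst h1
    show xG hF4 r t * xG hF4 r u = xG hF4 r u * xG hF4 r t
    rw [xG_add, xG_add, add_comm]
  · exact comm_of hF4 h1 t u

theorem zz_add (b b' : K) : zz e f (b + b') = zz e f b * zz e f b' := by
  unfold zz
  simp only [map_add, ← xG_add]
  have c := fun r s hr hs => z_comm (k := k) (r := r) (s := s) hr hs
  rw [(c 37 39 (by simp) (by simp) _ _).mul_mul_mul_comm, (c 28 44 (by simp) (by simp) _ _).mul_mul_mul_comm,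
    (((c 37 28 (by simp) (by simp) _ _).mul_right (c 37 44 (by simp) (by simp) _ _)).mul_left
      ((c 39 28 (by simp) (by simp) _ _).mul_right (c 39 44 (by simp) (by simp) _ _))).mul_mul_mul_comm]

theorem zz_fix [Fintype K] (hK : Fintype.card K = (2 ^ e) ^ 4) (b : K) : sg e (zz e f b) = zz e f b := by
  obtain ⟨-, -, -, -, w1, w2, w3, w4, -⟩ := W_eq
  unfold zz
  rw [map_mul, map_mul, map_mul, sg_x e (by norm_num), sg_x e (by norm_num), sg_x e (by norm_num),
    sg_x e (by norm_num), w1, w2, w3, w4, fr_succ, fr_succ, fr_succ, fr_succ, zero_add, one_add_one_eq_two,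
    two_add_one_eq_three, three_add_one_eq_four, fr_four e f hK]
  have c := fun r s hr hs => z_comm (k := k) (r := r) (s := s) hr hs
  rw [(c 39 37 (by simp) (by simp) _ _).eq,
    (((c 37 28 (by simp) (by simp) _ _).mul_right (c 37 44 (by simp) (by simp) _ _)).mul_left
      ((c 39 28 (by simp) (by simp) _ _).mul_right (c 39 44 (by simp) (by simp) _ _))).eq]

theorem zz_mem (b : K) : zz e f b ∈ chevF4.group k :=
  mul_mem (mul_mem (xG_mem_group hF4 _ _) (xG_mem_group hF4 _ _))
    (mul_mem (xG_mem_group hF4 _ _) (xG_mem_group hF4 _ _))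

/-- the elements of `Y` -/
noncomputable def yy (b : K) : GL chevF4.Idx k :=
  xG hF4 32 (fr e f 0 b) * xG hF4 43 (fr e f 1 b) * xG hF4 45 (fr e f 2 b) * xG hF4 23 (fr e f 3 b)

theorem y_comm {r s : ℕ} (hr : r ∈ [32, 43, 45, 23]) (hs : s ∈ [32, 43, 45, 23]) (t u : k) :
    Commute (xG hF4 r t) (xG hF4 s u) := by
  have h1 := List.all_eq_true.1 (List.all_eq_true.1 tabYY _ hr) _ hs
  rw [Bool.or_eq_true] at h1
  rcases h1 with h1 | h1
  · rw [beq_iff_eq] at h1
    subst h1
    show xG hF4 r t * xG hF4 r u = xG hF4 r u * xG hF4 r t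
    rw [xG_add, xG_add, add_comm]
  · exact comm_of hF4 h1 t u

theorem yy_fix [Fintype K] (hK : Fintype.card K = (2 ^ e) ^ 4) (b : K) : sg e (yy e f b) = yy e f b := by
  obtain ⟨-, -, -, -, -, -, -, -, w1, w2, w3, w4, -⟩ := W_eq
  unfold yy
  rw [map_mul, map_mul, map_mul, sg_x e (by norm_num), sg_x e (by norm_num), sg_x e (by norm_num),
    sg_x e (by norm_num), w1, w2, w3, w4, fr_succ, fr_succ, fr_succ, fr_succ, zero_add, one_add_one_eq_two,
    two_add_one_eq_three, three_add_one_eq_four, fr_four e f hK]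
  have c := fun r s hr hs => y_comm (k := k) (r := r) (s := s) hr hs
  rw [← (((c 32 43 (by simp) (by simp) _ _).mul_right (c 32 45 (by simp) (by simp) _ _)).mul_right
    (c 32 23 (by simp) (by simp) _ _)).eq]
  simp only [mul_assoc]

theorem yy_mem (b : K) : yy e f b ∈ chevF4.group k :=
  mul_mem (mul_mem (mul_mem (xG_mem_group hF4 _ _) (xG_mem_group hF4 _ _)) (xG_mem_group hF4 _ _))
    (xG_mem_group hF4 _ _)

theorem zu_comm {r s : ℕ} (hs : s ∈ [37, 28, 39, 44, 46]) (hr : r ∈ [41, 30, 25, 47]) (t u : k) :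
    Commute (xG hF4 s t) (xG hF4 r u) := by
  have h1 := List.all_eq_true.1 (List.all_eq_true.1 tabZU _ hs) _ hr
  exact (comm_of hF4 h1 u t).symm

theorem zy_comm {r s : ℕ} (hs : s ∈ [37, 28, 39, 44, 46]) (hr : r ∈ [32, 43, 45, 23]) (t u : k) :
    Commute (xG hF4 s t) (xG hF4 r u) := by
  have h1 := List.all_eq_true.1 (List.all_eq_true.1 tabZY _ hs) _ hr
  exact (comm_of hF4 h1 u t).symm

theorem zz_uu (b a : K) : Commute (zz e f b) (uu e f (up a)) := by
  rw [uu_up]
  unfold zz
  have c := fun r s hr hs => zu_comm (k := k) (r := r) (s := s) hs hr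
  have d : ∀ s, s ∈ [37, 28, 39, 44] → ∀ t : k, Commute (xG hF4 s t) (xG hF4 41 (fr e f 0 a) *
      xG hF4 30 (fr e f 1 a) * xG hF4 25 (fr e f 2 a) * xG hF4 47 (fr e f 3 a)) := by
    intro s hs t
    have hs' : s ∈ [37, 28, 39, 44, 46] := by
      simp only [List.mem_cons, List.not_mem_nil, or_false] at hs ⊢
      omega
    exact (((c 41 s (by simp) hs' _ _).mul_right (c 30 s (by simp) hs' _ _)).mul_right
      (c 25 s (by simp) hs' _ _)).mul_right (c 47 s (by simp) hs' _ _)
  exact ((d 37 (by simp) _).mul_left (d 39 (by simp) _)).mul_left ((d 28 (by simp) _).mul_left (d 44 (by simp) _))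

theorem zz_yy (b a : K) : Commute (zz e f b) (yy e f a) := by
  unfold zz yy
  have c := fun r s hr hs => zy_comm (k := k) (r := r) (s := s) hs hr
  have d : ∀ s, s ∈ [37, 28, 39, 44] → ∀ t : k, Commute (xG hF4 s t) (xG hF4 32 (fr e f 0 a) *
      xG hF4 43 (fr e f 1 a) * xG hF4 45 (fr e f 2 a) * xG hF4 23 (fr e f 3 a)) := by
    intro s hs t
    have hs' : s ∈ [37, 28, 39, 44, 46] := by
      simp only [List.mem_cons, List.not_mem_nil, or_false] at hs ⊢
      omega
    exact (((c 32 s (by simp) hs' _ _).mul_right (c 43 s (by simp) hs' _ _)).mul_right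
      (c 45 s (by simp) hs' _ _)).mul_right (c 23 s (by simp) hs' _ _)
  exact ((d 37 (by simp) _).mul_left (d 39 (by simp) _)).mul_left ((d 28 (by simp) _).mul_left (d 44 (by simp) _))

theorem uy_rel {i j : ℕ} (hi : i < 4) (hj : j < 4) (t u : k) :
    xG hF4 ([32, 43, 45, 23].getD j 0) u * xG hF4 ([41, 30, 25, 47].getD i 0) t =
      xG hF4 ([41, 30, 25, 47].getD i 0) t * xG hF4 ([32, 43, 45, 23].getD j 0) u *
        (if i = j then xG hF4 46 (t * u) else 1) := by
  have h1 := List.all_eq_true.1 (List.all_eq_true.1 tabUY i (List.mem_range.2 hi)) j (List.mem_range.2 hj)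
  have h2 := rel (F := k) hF4 h1 t u
  rw [h2]
  congr 1
  split_ifs with h
  · simp
  · simp

theorem yy_uu_aux (a b : Fin 4 → k) :
    (xG hF4 32 (b 0) * xG hF4 43 (b 1) * xG hF4 45 (b 2) * xG hF4 23 (b 3)) *
      (xG hF4 41 (a 0) * xG hF4 30 (a 1) * xG hF4 25 (a 2) * xG hF4 47 (a 3)) =
    (xG hF4 41 (a 0) * xG hF4 30 (a 1) * xG hF4 25 (a 2) * xG hF4 47 (a 3)) *
      (xG hF4 32 (b 0) * xG hF4 43 (b 1) * xG hF4 45 (b 2) * xG hF4 23 (b 3)) *
      (xG hF4 46 (a 0 * b 0) * xG hF4 46 (a 1 * b 1) * xG hF4 46 (a 2 * b 2) * xG hF4 46 (a 3 * b 3)) := by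
  have cm : ∀ {i j : ℕ} (hi : i < 4) (hj : j < 4) (hij : i ≠ j) (t u : k),
      Commute (xG hF4 ([32, 43, 45, 23].getD j 0) u) (xG hF4 ([41, 30, 25, 47].getD i 0) t) := by
    intro i j hi hj hij t u
    have := uy_rel hi hj t u
    rw [if_neg hij, mul_one] at this
    exact this
  have rl : ∀ {i : ℕ} (hi : i < 4) (t u : k),
      xG hF4 ([32, 43, 45, 23].getD i 0) u * xG hF4 ([41, 30, 25, 47].getD i 0) t =
      xG hF4 ([41, 30, 25, 47].getD i 0) t * xG hF4 ([32, 43, 45, 23].getD i 0) u * xG hF4 46 (t * u) := by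
    intro i hi t u
    have := uy_rel hi hi t u
    rwa [if_pos rfl] at this
  have cu : ∀ (r : ℕ), r ∈ [41, 30, 25, 47] → ∀ t u : k, Commute (xG hF4 46 t) (xG hF4 r u) :=
    fun r hr t u => zu_comm (by simp) hr t u
  have cy : ∀ (r : ℕ), r ∈ [32, 43, 45, 23] → ∀ t u : k, Commute (xG hF4 46 t) (xG hF4 r u) :=
    fun r hr t u => zy_comm (by simp) hr t u
  -- the four relations
  have h0 := q_right (q_right (q_right (rl (i := 0) (by norm_num) (a 0) (b 0))
    (cm (i := 1) (j := 0) (by norm_num) (by norm_num) (by norm_num) (a 1) (b 0)) (cu 30 (by simp) _ _))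
    (cm (i := 2) (j := 0) (by norm_num) (by norm_num) (by norm_num) (a 2) (b 0)) (cu 25 (by simp) _ _))
    (cm (i := 3) (j := 0) (by norm_num) (by norm_num) (by norm_num) (a 3) (b 0)) (cu 47 (by simp) _ _)
  have h1 := q_right (q_right (q_left (cm (i := 0) (j := 1) (by norm_num) (by norm_num) (by norm_num) (a 0) (b 1))
    (rl (i := 1) (by norm_num) (a 1) (b 1)))
    (cm (i := 2) (j := 1) (by norm_num) (by norm_num) (by norm_num) (a 2) (b 1)) (cu 25 (by simp) _ _))
    (cm (i := 3) (j := 1) (by norm_num) (by norm_num) (by norm_num) (a 3) (b 1)) (cu 47 (by simp) _ _)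
  have h2 := q_right (q_left ((cm (i := 0) (j := 2) (by norm_num) (by norm_num) (by norm_num) (a 0) (b 2)).mul_right
    (cm (i := 1) (j := 2) (by norm_num) (by norm_num) (by norm_num) (a 1) (b 2)))
    (rl (i := 2) (by norm_num) (a 2) (b 2)))
    (cm (i := 3) (j := 2) (by norm_num) (by norm_num) (by norm_num) (a 3) (b 2)) (cu 47 (by simp) _ _)
  have h3 := q_left (((cm (i := 0) (j := 3) (by norm_num) (by norm_num) (by norm_num) (a 0) (b 3)).mul_right
    (cm (i := 1) (j := 3) (by norm_num) (by norm_num) (by norm_num) (a 1) (b 3))).mul_right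
    (cm (i := 2) (j := 3) (by norm_num) (by norm_num) (by norm_num) (a 2) (b 3)))
    (rl (i := 3) (by norm_num) (a 3) (b 3))
  exact q_mul (q_mul (q_mul h0 h1 (cy 43 (by simp) _ _)) h2 ((cy 45 (by simp) _ _).mul_left (cy 45 (by simp) _ _))) h3
    (((cy 23 (by simp) _ _).mul_left (cy 23 (by simp) _ _)).mul_left (cy 23 (by simp) _ _))

end Real

end Cfsg.Agent.H420.PG.F4
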