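import Mathlib
import Cfsg.Agent.H420.PG.G2ExRel
import Cfsg.Agent.H420.PG.G2Core
import Cfsg.Agent.H420.PG.AbsF4

/-!
# The exceptional case: `G₂(3)` in characteristic two (helper420)

`ex_core` : there is no nonzero module of `G₂(3)` in characteristic two on which an element of order seven is fixed point
free (for the element `tt` of `SU₃(3)`).
-/

set_option autoImplicit false
set_option linter.unusedSectionVars false

namespace Cfsg.Agent.H420.PG.G2

open Matrix Module Cfsg.Agent.H161.Oct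

section Frob7

variable {𝕜 W : Type*} [Field 𝕜] [AddCommGroup W] [Module 𝕜 W] [FiniteDimensional 𝕜 W] {G : Type*} [Group G]

omit [FiniteDimensional 𝕜 W] [Field 𝕜] [AddCommGroup W] [Module 𝕜 W] in
theorem pow_seven {t x : G} (hxt : x * t = t ^ 2 * x) (hx3 : x ^ 3 = 1) : t ^ 7 = 1 := by
  have hc : x * t * x⁻¹ = t ^ 2 := by rw [hxt, mul_inv_cancel_right]
  have hcn : ∀ n : ℕ, x * t ^ n * x⁻¹ = (t ^ n) ^ 2 := by
    intro n
    rw [← conj_pow, hc, ← pow_mul, ← pow_mul, mul_comm]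
  have h8 : t ^ 8 = t := by
    have e1 := hcn 4
    have e2 := hcn 2
    have e3 : t ^ 8 = x * (x * (x * t * x⁻¹) * x⁻¹) * x⁻¹ := by
      rw [hc, e2, ← pow_mul, e1, ← pow_mul]
    rw [e3]
    have e4 : x * (x * (x * t * x⁻¹) * x⁻¹) * x⁻¹ = x ^ 3 * t * (x ^ 3)⁻¹ := by
      simp only [pow_succ, pow_zero, one_mul, _root_.mul_inv_rev, mul_assoc]
    rw [e4, hx3, one_mul, inv_one, mul_one]
  have e1 : t ^ 7 * t = t := by rw [← pow_succ, h8]
  exact mul_eq_right.1 e1

/-- a Frobenius group of order `21` -/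
theorem frob21 (ρ : G →* Module.End 𝕜 W) {t x : G} (hxt : x * t = t ^ 2 * x) (hx3 : x ^ 3 = 1) (hx1 : x ≠ 1)
    (ht1 : t ≠ 1) (h7 : ((7 : ℕ) : 𝕜) ≠ 0) (hfix : ∀ v, ρ t v = v → v = 0) : finrank 𝕜 W = 3 * finrank 𝕜 (fx (ρ x)) := by
  have hc : x * t * x⁻¹ = t ^ 2 := by rw [hxt, mul_inv_cancel_right]
  have hcn : ∀ n : ℕ, x * t ^ n * x⁻¹ = (t ^ n) ^ 2 := by
    intro n
    rw [← conj_pow, hc, ← pow_mul, ← pow_mul, mul_comm]
  have h8 : t ^ 8 = t := by
    have e1 := hcn 4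
    have e2 := hcn 2
    have e3 : t ^ 8 = x * (x * (x * t * x⁻¹) * x⁻¹) * x⁻¹ := by
      rw [hc, e2, ← pow_mul, e1, ← pow_mul]
    rw [e3]
    have e4 : x * (x * (x * t * x⁻¹) * x⁻¹) * x⁻¹ = x ^ 3 * t * (x ^ 3)⁻¹ := by
      simp only [pow_succ, pow_zero, one_mul, _root_.mul_inv_rev, mul_assoc]
    rw [e4, hx3, one_mul, inv_one, mul_one]
  have ht7 : t ^ 7 = 1 := by
    have e1 : t ^ 7 * t = t := by rw [← pow_succ, h8]
    exact mul_eq_right.1 e1
  have ho : orderOf t = 7 := orderOf_eq_prime ht7 ht1 (hp := ⟨by norm_num⟩)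
  have hox : orderOf x = 3 := orderOf_eq_prime hx3 hx1 (hp := ⟨by norm_num⟩)
  set K := Subgroup.zpowers t with hK
  set R := Subgroup.zpowers x with hR
  have hKc : Nat.card K = 7 := by rw [hK, Nat.card_zpowers, ho]
  have hRc : Nat.card R = 3 := by rw [hR, Nat.card_zpowers, hox]
  have hKf : Finite K := Nat.finite_of_card_ne_zero (by rw [hKc]; norm_num)
  have hRf : Finite R := Nat.finite_of_card_ne_zero (by rw [hRc]; norm_num)
  have hmemK : ∀ k ∈ K, ∃ n : ℕ, k = t ^ n := by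
    intro k hk
    have : IsOfFinOrder t := isOfFinOrder_iff_pow_eq_one.2 ⟨7, by norm_num, ht7⟩
    obtain ⟨n, hn⟩ := (this.mem_powers_iff_mem_zpowers).2 hk
    exact ⟨n, hn.symm⟩
  have hxK : ∀ k ∈ K, x * k * x⁻¹ = k ^ 2 := by
    intro k hk
    obtain ⟨n, rfl⟩ := hmemK k hk
    exact hcn n
  have hRn : R ≤ Subgroup.normalizer (K : Set G) := by
    rw [hR, Subgroup.zpowers_le, Subgroup.mem_normalizer_iff]
    intro h
    constructor
    · intro hh
      rw [hxK h hh]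
      exact K.pow_mem hh 2
    · intro hh
      have e1 : h = x⁻¹ * (x * h * x⁻¹) * x := by group
      -- `x⁻¹ k x = k⁴`
      have e2 : ∀ k ∈ K, x⁻¹ * k * x = k ^ 4 := by
        intro k hk
        obtain ⟨n, rfl⟩ := hmemK k hk
        have e3 : x * (t ^ n) ^ 4 * x⁻¹ = t ^ n := by
          rw [← pow_mul, hcn, ← pow_mul, show n * 4 * 2 = 8 * n by ring, pow_mul, h8]
        calc x⁻¹ * t ^ n * x = x⁻¹ * (x * (t ^ n) ^ 4 * x⁻¹) * x := by rw [e3]
          _ = (t ^ n) ^ 4 := by simp only [mul_assoc, inv_mul_cancel_left, inv_mul_cancel, mul_one]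
      rw [e1, e2 _ hh]
      exact K.pow_mem hh 4
  let σ : R →* MulAut K := (K.normalizerMonoidHom).comp (Subgroup.inclusion hRn)
  have hσ : ∀ (r : R) (k : K), ((σ r k : K) : G) = r * k * (r : G)⁻¹ := fun r k => rfl
  let ρK : Representation 𝕜 K W := ρ.comp K.subtype
  let ρR : Representation 𝕜 R W := ρ.comp R.subtype
  have h := (Cfsg.Agent.OddOrderLocal.FrobRep.finrank_eq (F := 𝕜) (K := K) (R := R) (V := W) (by rw [hKc]; exact h7) ρK ρR
    σ (fun r k v => by
      show ρ (r : G) (ρ (k : G) v) = ρ ((σ r k : K) : G) (ρ (r : G) v)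
      rw [hσ, ← Module.End.mul_apply, ← Module.End.mul_apply, ← map_mul, ← map_mul, inv_mul_cancel_right]) (fun v hv => by
      apply hfix
      exact hv ⟨t, Subgroup.mem_zpowers t⟩) (fun r hr k hk => by
      have h1 : (r : G) * k * (r : G)⁻¹ = k := by rw [← hσ, hk]
      have : Fact (Nat.Prime 3) := ⟨Nat.prime_three⟩
      have h2 : (⟨x, Subgroup.mem_zpowers x⟩ : R) ∈ Submonoid.powers r := mem_powers_of_prime_card hRc hr
      obtain ⟨n, hn⟩ := h2
      have h3 : x = (r : G) ^ n := (congrArg Subtype.val hn).symm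
      have h4 : Commute (r : G) (k : G) := by
        rw [commute_iff_eq]
        rw [mul_inv_eq_iff_eq_mul] at h1
        exact h1
      have h5 : Commute x (k : G) := by
        rw [h3]
        exact h4.pow_left n
      have h6 := hxK k k.2
      rw [h5.eq, mul_inv_cancel_right, pow_two] at h6
      apply Subtype.ext
      exact (left_eq_mul.1 h6))).1
  have h9 : Representation.invariants ρR = fx (ρ x) := by
    ext v
    rw [Representation.mem_invariants, mem_fx]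
    constructor
    · intro hv
      exact hv ⟨x, Subgroup.mem_zpowers x⟩
    · rintro hv ⟨r, hr⟩
      have : IsOfFinOrder x := isOfFinOrder_iff_pow_eq_one.2 ⟨3, by norm_num, hx3⟩
      obtain ⟨n, hn⟩ := (this.mem_powers_iff_mem_zpowers).2 hr
      show ρ r v = v
      rw [← hn]
      have h7 : ∀ n : ℕ, ρ (x ^ n) v = v := by
        intro n
        induction n with
        | zero => rw [pow_zero, map_one]; rfl
        | succ n ih => rw [pow_succ, map_mul, Module.End.mul_apply, hv, ih]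
      exact h7 n
  rw [h, hRc, h9]

end Frob7

/-! ### Modules of an extraspecial group of order `27` -/

section Heis

variable {𝕜 W : Type*} [Field 𝕜] [AddCommGroup W] [Module 𝕜 W] (g : ZMod 3 → ZMod 3 → ZMod 3 → Module.End 𝕜 W)

/-- the fixed points of the centre -/
def V3 : Submodule 𝕜 W where
  carrier := {v | ∀ c, g 0 0 c v = v}
  add_mem' := by
    intro v w hv hw c
    rw [map_add, hv, hw]
  zero_mem' := by
    intro c
    rw [map_zero]
  smul_mem' := by
    intro k v hv c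
    rw [map_smul, hv]

variable {g}
variable (hg0 : g 0 0 0 = 1) (hg : ∀ a b c a' b' c', g a b c * g a' b' c' = g (a + a') (b + b') (c + c' + a * b'))

include hg in
theorem g_ap (a b c a' b' c' : ZMod 3) (v : W) : g a b c (g a' b' c' v) = g (a + a') (b + b') (c + c' + a * b') v := by
  rw [← hg]; rfl

include hg in
theorem g_V3 (a b c : ZMod 3) {v : W} (hv : v ∈ V3 g) : g a b c v ∈ V3 g := by
  intro d
  rw [g_ap hg]
  conv_rhs => rw [← hv d, g_ap hg]
  congr 2 <;> ring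

include hg in
theorem g_V3_apply (a b c : ZMod 3) {v : W} (hv : v ∈ V3 g) : g a b c v = g a b 0 v := by
  conv_rhs => rw [← hv c, g_ap hg]
  congr 2 <;> ring

variable (g) in
/-- the action of the quotient -/
def R3 (hg : ∀ a b c a' b' c', g a b c * g a' b' c' = g (a + a') (b + b') (c + c' + a * b')) (p : ZMod 3 × ZMod 3) :
    Module.End 𝕜 (V3 g) := (g p.1 p.2 0).restrict fun _ hv => g_V3 hg p.1 p.2 0 hv

theorem R3_coe (p : ZMod 3 × ZMod 3) (v : V3 g) : ((R3 g hg p v : V3 g) : W) = g p.1 p.2 0 v := rfl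

include hg0 in
theorem R3_zero : R3 g hg (0 : ZMod 3 × ZMod 3) = 1 := by
  ext v
  rw [R3_coe]
  show g 0 0 0 (v : W) = v
  rw [hg0]; rfl

theorem R3_add (p p' : ZMod 3 × ZMod 3) : R3 g hg (p + p') = R3 g hg p * R3 g hg p' := by
  ext v
  rw [Module.End.mul_apply, R3_coe, R3_coe, R3_coe, g_ap hg, ← g_V3_apply hg _ _ (0 + 0 + p.1 * p'.2) v.2]
  rfl

variable [IsAlgClosed 𝕜] [FiniteDimensional 𝕜 W]

theorem three_add' (a : ZMod 3) : a + a + a = 0 := by revert a; decide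

include hg0 in
theorem finrank_R3 (h3 : ((3 : ℕ) : 𝕜) ≠ 0) (hfr : ∀ a b c, (a, b) ≠ (0, 0) → finrank 𝕜 W = 3 * finrank 𝕜 (fx (g a b c)))
    {a b : ZMod 3} (hab : (a, b) ≠ (0, 0)) : finrank 𝕜 (V3 g) = 3 * finrank 𝕜 (fx (R3 g hg (a, b))) := by
  classical
  have hM : ∃ M : Submodule 𝕜 W, ∀ v, v ∈ M ↔ v ∈ V3 g ∧ g a b 0 v = v :=
    ⟨V3 g ⊓ fx (g a b 0), fun v => by rw [Submodule.mem_inf, mem_fx]⟩
  obtain ⟨M, hM⟩ := hM
  have hMf : finrank 𝕜 M = finrank 𝕜 (fx (R3 g hg (a, b))) := by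
    have h1 : M ≤ V3 g := fun v hv => ((hM v).1 hv).1
    have h2 : fx (R3 g hg (a, b)) = M.comap (V3 g).subtype := by
      ext v
      rw [mem_fx, Submodule.mem_comap, hM]
      constructor
      · intro h
        exact ⟨v.2, congrArg Subtype.val h⟩
      · intro h
        exact Subtype.ext h.2
    rw [h2]
    exact (Submodule.comapSubtypeEquivOfLe h1).finrank_eq.symm
  have hc3 : (Fintype.card (ZMod 3) : 𝕜) ≠ 0 := by rw [ZMod.card]; exact h3
  have hc9 : (Fintype.card (ZMod 3 × ZMod 3) : 𝕜) ≠ 0 := by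
    rw [Fintype.card_prod, Nat.cast_mul]
    exact mul_ne_zero hc3 hc3
  -- the formula for `Z`
  have hZ := dim3 (A := ZMod 3) (𝕜 := 𝕜) (V := W) three_add' hc3 (fun c => g 0 0 c) hg0 (fun c d => by
    rw [hg]
    congr 1 <;> ring) (M := V3 g) (fun v => Iff.rfl)
  -- the formula for `⟨g⟩ × Z`
  have h30 : (3 : ZMod 3) = 0 := by decide
  have hZx := dim3 (A := ZMod 3 × ZMod 3) (𝕜 := 𝕜) (V := W) (fun x => Prod.ext (three_add' _) (three_add' _)) hc9
    (fun x => g (x.1 * a) (x.1 * b) (x.2 - x.1 ^ 2 * (a * b))) (by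
      show g (0 * a) (0 * b) (0 - 0 ^ 2 * (a * b)) = 1
      rw [← hg0]
      congr 1 <;> ring) (fun x y => by
      rw [hg]
      show g ((x.1 + y.1) * a) ((x.1 + y.1) * b) (x.2 + y.2 - (x.1 + y.1) ^ 2 * (a * b)) = _
      congr 1
      · ring
      · ring
      · linear_combination -(x.1 * y.1 * a * b) * h30) (M := M) (fun v => by
      rw [hM]
      constructor
      · rintro ⟨hv, hgv⟩ ⟨i, z⟩
        show g (i * a) (i * b) (z - i ^ 2 * (a * b)) v = v
        rw [g_V3_apply hg _ _ _ hv]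
        have hi : i = 0 ∨ i = 1 ∨ i = 2 := by
          revert i
          decide
        rcases hi with rfl | rfl | rfl
        · rw [zero_mul, zero_mul, hg0]; rfl
        · rw [one_mul, one_mul, hgv]
        · have h5 := g_ap hg a b 0 a b 0 v
          rw [hgv, hgv] at h5
          rw [two_mul, two_mul, ← g_V3_apply hg _ _ (0 + 0 + a * b) hv]
          exact h5.symm
      · intro h
        constructor
        · intro c
          have h4 := h (0, c)
          simp only [zero_mul] at h4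
          rw [show c - (0 : ZMod 3) ^ 2 * (a * b) = c by ring] at h4
          exact h4
        · have h4 := h (1, a * b)
          simp only [one_mul] at h4
          rw [show a * b - (1 : ZMod 3) ^ 2 * (a * b) = 0 by ring] at h4
          exact h4)
  rw [Fintype.card_prod, ZMod.card, Fintype.sum_prod_type] at hZx
  rw [ZMod.card] at hZ
  have hsum3 : ∀ f : ZMod 3 → ℕ, ∑ i, f i = f 0 + f 1 + f 2 := by
    intro f
    exact Fin.sum_univ_three f
  rw [hsum3, hsum3, hsum3, hsum3] at hZx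
  rw [hsum3] at hZ
  have hne' : ∀ a b : ZMod 3, (a, b) ≠ (0, 0) → ∀ i : ZMod 3, i ≠ 0 → (i * a, i * b) ≠ (0, 0) := by
    decide
  have hne := hne' a b hab
  have k1 : ∀ z : ZMod 3, 3 * finrank 𝕜 (fx (g (1 * a) (1 * b) z)) = finrank 𝕜 W := fun z =>
    (hfr _ _ _ (hne 1 (by decide))).symm
  have k2 : ∀ z : ZMod 3, 3 * finrank 𝕜 (fx (g (2 * a) (2 * b) z)) = finrank 𝕜 W := fun z =>
    (hfr _ _ _ (hne 2 (by decide))).symm
  have k0 : ∀ z : ZMod 3, finrank 𝕜 (fx (g (0 * a) (0 * b) (z - 0 ^ 2 * (a * b)))) = finrank 𝕜 (fx (g 0 0 z)) := by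
    intro z
    rw [show g (0 * a) (0 * b) (z - 0 ^ 2 * (a * b)) = g 0 0 z by congr 1 <;> ring]
  have hZx' : 3 * (finrank 𝕜 (fx (g (0 * a) (0 * b) (0 - 0 ^ 2 * (a * b)))) + finrank 𝕜 (fx (g (0 * a) (0 * b) (1 - 0 ^ 2 * (a * b)))) +
      finrank 𝕜 (fx (g (0 * a) (0 * b) (2 - 0 ^ 2 * (a * b)))) +
      (finrank 𝕜 (fx (g (1 * a) (1 * b) (0 - 1 ^ 2 * (a * b)))) + finrank 𝕜 (fx (g (1 * a) (1 * b) (1 - 1 ^ 2 * (a * b)))) +
      finrank 𝕜 (fx (g (1 * a) (1 * b) (2 - 1 ^ 2 * (a * b))))) +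
      (finrank 𝕜 (fx (g (2 * a) (2 * b) (0 - 2 ^ 2 * (a * b)))) + finrank 𝕜 (fx (g (2 * a) (2 * b) (1 - 2 ^ 2 * (a * b)))) +
      finrank 𝕜 (fx (g (2 * a) (2 * b) (2 - 2 ^ 2 * (a * b)))))) = 3 * 3 * (finrank 𝕜 W + 2 * finrank 𝕜 M) := hZx
  rw [k0, k0, k0] at hZx'
  rw [← hMf]
  have e1 := k1 (0 - 1 ^ 2 * (a * b))
  have e2 := k1 (1 - 1 ^ 2 * (a * b))
  have e3 := k1 (2 - 1 ^ 2 * (a * b))
  have e4 := k2 (0 - 2 ^ 2 * (a * b))
  have e5 := k2 (1 - 2 ^ 2 * (a * b))
  have e6 := k2 (2 - 2 ^ 2 * (a * b))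
  omega

include hg0 hg in
/-- the group of order `27` has fixed points -/
theorem exists_fix_27 (h3 : ((3 : ℕ) : 𝕜) ≠ 0)
    (hfr : ∀ a b c, (a, b) ≠ (0, 0) → finrank 𝕜 W = 3 * finrank 𝕜 (fx (g a b c)))
    (hZ : ∃ v : W, v ≠ 0 ∧ ∀ c, g 0 0 c v = v) : ∃ v : W, v ≠ 0 ∧ ∀ a b c, g a b c v = v := by
  classical
  by_contra hcon
  push Not at hcon
  have hcon' : ∀ v : W, (∀ a b c, g a b c v = v) → v = 0 := by
    intro v hv
    by_contra h
    obtain ⟨a, b, c, hac⟩ := hcon v h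
    exact hac (hv a b c)
  have hc3 : (Fintype.card (ZMod 3) : 𝕜) ≠ 0 := by rw [ZMod.card]; exact h3
  have hc9 : (Fintype.card (ZMod 3 × ZMod 3) : 𝕜) ≠ 0 := by
    rw [Fintype.card_prod, Nat.cast_mul]
    exact mul_ne_zero hc3 hc3
  have h := dim3 (A := ZMod 3 × ZMod 3) (𝕜 := 𝕜) (V := V3 g) (fun x => Prod.ext (three_add' _) (three_add' _)) hc9 (R3 g hg)
    (R3_zero hg0 hg) (R3_add hg) (M := ⊥) (fun v => by
    rw [Submodule.mem_bot]
    constructor
    · rintro rfl a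
      rw [map_zero]
    · intro hv
      apply Subtype.ext
      apply hcon'
      intro a b c
      rw [g_V3_apply hg _ _ _ v.2]
      exact congrArg Subtype.val (hv (a, b)))
  rw [finrank_bot, mul_zero, add_zero, Fintype.card_prod, ZMod.card, ← Finset.add_sum_erase _ _ (Finset.mem_univ (0 : ZMod 3 × ZMod 3)),
    R3_zero hg0 hg, fx_one, finrank_top] at h
  have h4 : 3 * ∑ p ∈ Finset.univ.erase (0 : ZMod 3 × ZMod 3), finrank 𝕜 (fx (R3 g hg p)) = 8 * finrank 𝕜 (V3 g) := by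
    rw [Finset.mul_sum, Finset.sum_congr rfl (g := fun _ => finrank 𝕜 (V3 g)), Finset.sum_const,
      Finset.card_erase_of_mem (Finset.mem_univ _), Finset.card_univ, Fintype.card_prod, ZMod.card, smul_eq_mul]
    rintro ⟨a, b⟩ hp
    exact (finrank_R3 hg0 hg h3 hfr (Finset.mem_erase.1 hp).1).symm
  have h5 : finrank 𝕜 (V3 g) = 0 := by omega
  obtain ⟨v, hv0, hv⟩ := hZ
  have h12 : V3 g = ⊥ := Submodule.finrank_eq_zero.1 h5
  apply hv0
  have h13 : v ∈ V3 g := hv
  rw [h12, Submodule.mem_bot] at h13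
  exact h13

end Heis

/-! ### The contradiction -/

section ExCore

theorem gU_c (c : ZMod 3) : gU 0 0 c = slA (u 0 0 c) := by
  rw [gU, x1_eq, x3_eq, zero_smul, zero_smul, ta_zero, mul_one, mul_one, sw_sw, mul_one]

theorem x_ne : gU 1 0 2 ≠ 1 := by
  intro h
  have h1 := congrArg mt h
  rw [mt_g102, mt_one] at h1
  revert h1
  decide +kernel

theorem x_three : gU 1 0 2 ^ 3 = 1 := by
  rw [pow_succ, pow_two, gU_mul, gU_mul, ← gU_zero]
  congr 1

theorem gU_gen (a b c : ZMod 3) : gU a b c = gU a 0 0 * gU 0 b 0 * gU 0 0 (c - a * b) := by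
  rw [gU_mul, gU_mul]
  congr 1 <;> ring

variable {𝕜 W : Type*} [Field 𝕜] [IsAlgClosed 𝕜] [AddCommGroup W] [Module 𝕜 W] [FiniteDimensional 𝕜 W]

/-- a unipotent operator of order `8` in characteristic two has a nonzero fixed vector -/
theorem exists_fix_eight (h2 : (2 : 𝕜) = 0) {f : Module.End 𝕜 W} (hf : ∀ v, (f ^ 8) v = v) {M : Submodule 𝕜 W}
    (hM : ∀ v ∈ M, f v ∈ M) {v : W} (hv : v ∈ M) (hv0 : v ≠ 0) : ∃ w ∈ M, w ≠ 0 ∧ f w = w := by
  have h2' : ∀ w : W, w + w = 0 := by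
    intro w
    rw [← two_smul 𝕜, h2, zero_smul]
  have hMk : ∀ k, ∀ v ∈ M, (f ^ k) v ∈ M := by
    intro k
    induction k with
    | zero => intro v hv; exact hv
    | succ k ih =>
      intro v hv
      rw [pow_succ', Module.End.mul_apply]
      exact hM _ (ih v hv)
  have step : ∀ k, (∃ w ∈ M, w ≠ 0 ∧ (f ^ (k + k)) w = w) → ∃ w ∈ M, w ≠ 0 ∧ (f ^ k) w = w := by
    rintro k ⟨w, hw, hw0, hk⟩
    by_cases h : (f ^ k) w + w = 0
    · refine ⟨w, hw, hw0, ?_⟩
      have h3 := h2' w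
      exact add_right_cancel (h.trans h3.symm)
    · refine ⟨(f ^ k) w + w, M.add_mem (hMk k w hw) hw, h, ?_⟩
      rw [map_add, ← Module.End.mul_apply, ← pow_add, hk, add_comm]
  have s4 := step 4 ⟨v, hv, hv0, hf v⟩
  have s2 := step 2 s4
  obtain ⟨w, hw, hw0, hw1⟩ := step 1 s2
  exact ⟨w, hw, hw0, by rwa [pow_one] at hw1⟩

theorem ex_core [Nontrivial W] (h2 : (2 : 𝕜) = 0) (ρ : AutO (ZMod 3) →* Module.End 𝕜 W)
    (hfix : ∀ v, ρ tt v = v → v = 0) : False := by
  classical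
  have h3 : ((3 : ℕ) : 𝕜) ≠ 0 := by
    intro h
    have : (1 : 𝕜) = 0 := by
      push_cast at h
      linear_combination h - h2
    exact one_ne_zero this
  have h7 : ((7 : ℕ) : 𝕜) ≠ 0 := by
    intro h
    have : (1 : 𝕜) = 0 := by
      push_cast at h
      linear_combination h - 3 * h2
    exact one_ne_zero this
  have hap : ∀ a b v, ρ (a * b) v = ρ a (ρ b v) := fun a b v => ap ρ a b v
  have hfr := frob21 ρ x_tt x_three x_ne tt_ne h7 hfix
  set g : ZMod 3 → ZMod 3 → ZMod 3 → Module.End 𝕜 W := fun a b c => ρ (gU a b c) with hgdef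
  have hg0 : g 0 0 0 = 1 := by
    show ρ (gU 0 0 0) = 1
    rw [gU_zero, map_one]
  have hg : ∀ a b c a' b' c', g a b c * g a' b' c' = g (a + a') (b + b') (c + c' + a * b') := by
    intro a b c a' b' c'
    show ρ (gU a b c) * ρ (gU a' b' c') = ρ (gU _ _ _)
    rw [← map_mul, gU_mul]
  -- conjugation
  have hcj : ∀ (h : AutO (ZMod 3)) (a b : AutO (ZMod 3)), h * a = b * h → finrank 𝕜 (fx (ρ a)) = finrank 𝕜 (fx (ρ b)) := by
    intro h a b hab
    refine finrank_conj (h := ρ h) (h' := ρ h⁻¹) ?_ ?_ ?_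
    · rw [← map_mul, mul_inv_cancel, map_one]
    · rw [← map_mul, inv_mul_cancel, map_one]
    · rw [← map_mul, ← map_mul, hab]
  have hc1 : ∀ a b c c' : ZMod 3, (a, b) ≠ (0, 0) → finrank 𝕜 (fx (g a b c)) = finrank 𝕜 (fx (g a b c')) := by
    intro a b c c' hab
    obtain ⟨s, s', hs⟩ : ∃ s s' : ZMod 3, c + s * b = c' + a * s' := by
      revert a b c c'
      decide
    refine hcj (gU s s' 0) _ _ ?_
    rw [gU_mul, gU_mul]
    congr 1
    · ring
    · ring
    · linear_combination hs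
  have hc2 : ∀ a b c : ZMod 3, ∃ c', finrank 𝕜 (fx (g a b c)) = finrank 𝕜 (fx (g (2 * a + b) (2 * a + 2 * b) c')) := by
    have ha : ∀ a : ZMod 3, ∃ c', gam * gU a 0 0 = gU (2 * a) (2 * a) c' * gam := by
      intro a
      have hi : a = 0 ∨ a = 1 ∨ a = 2 := by
        revert a
        decide
      rcases hi with rfl | rfl | rfl
      · exact ⟨0, by rw [mul_zero, gU_zero, mul_one, one_mul]⟩
      · exact ⟨2, gam_a⟩
      · refine ⟨(2 + 2 + 2 * 2), ?_⟩
        have e1 : gU 2 0 0 = gU 1 0 0 * gU 1 0 0 := by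
          rw [gU_mul]
          congr 1
        rw [e1, ← mul_assoc, gam_a, mul_assoc, gam_a, ← mul_assoc, gU_mul]
        congr 1
    have hb : ∀ b : ZMod 3, ∃ c', gam * gU 0 b 0 = gU b (2 * b) c' * gam := by
      intro b
      have hi : b = 0 ∨ b = 1 ∨ b = 2 := by
        revert b
        decide
      rcases hi with rfl | rfl | rfl
      · exact ⟨0, by rw [mul_zero, gU_zero, mul_one, one_mul]⟩
      · exact ⟨1, gam_b⟩
      · refine ⟨(1 + 1 + 1 * 2), ?_⟩
        have e1 : gU 0 2 0 = gU 0 1 0 * gU 0 1 0 := by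
          rw [gU_mul]
          congr 1
        rw [e1, ← mul_assoc, gam_b, mul_assoc, gam_b, ← mul_assoc, gU_mul]
        congr 1
    have hc : ∀ c : ZMod 3, ∃ c', gam * gU 0 0 c = gU 0 0 c' * gam := by
      intro c
      have hi : c = 0 ∨ c = 1 ∨ c = 2 := by
        revert c
        decide
      rcases hi with rfl | rfl | rfl
      · exact ⟨0, by rw [gU_zero, mul_one, one_mul]⟩
      · exact ⟨2, gam_c⟩
      · refine ⟨(2 + 2), ?_⟩
        have e1 : gU 0 0 2 = gU 0 0 1 * gU 0 0 1 := by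
          rw [gU_mul]
          congr 1
        rw [e1, ← mul_assoc, gam_c, mul_assoc, gam_c, ← mul_assoc, gU_mul]
        congr 1
    intro a b c
    obtain ⟨ca, hca⟩ := ha a
    obtain ⟨cb, hcb⟩ := hb b
    obtain ⟨cc, hcc⟩ := hc (c - a * b)
    refine ⟨ca + cb + 2 * a * (2 * b) + cc, hcj gam _ _ ?_⟩
    rw [gU_gen, ← mul_assoc, ← mul_assoc, hca, mul_assoc (gU (2 * a) (2 * a) ca), hcb, ← mul_assoc, mul_assoc _ gam, hcc,
      ← mul_assoc, gU_mul, gU_mul]
    congr 2 <;> ring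
  have hreg : ∀ a b c, (a, b) ≠ ((0 : ZMod 3), (0 : ZMod 3)) → finrank 𝕜 W = 3 * finrank 𝕜 (fx (g a b c)) := by
    -- the chain
    have hP : ∀ a b : ZMod 3, (a, b) ≠ (0, 0) → (∀ c, finrank 𝕜 W = 3 * finrank 𝕜 (fx (g a b c))) →
        ∀ c, finrank 𝕜 W = 3 * finrank 𝕜 (fx (g (2 * a + b) (2 * a + 2 * b) c)) := by
      intro a b hab h c
      obtain ⟨c', hc'⟩ := hc2 a b 0
      have hne : ∀ a b : ZMod 3, (a, b) ≠ (0, 0) → (2 * a + b, 2 * a + 2 * b) ≠ (0, 0) := by decide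
      rw [hc1 _ _ c c' (hne a b hab), ← hc', ← h 0]
    have p10 : ∀ c, finrank 𝕜 W = 3 * finrank 𝕜 (fx (g 1 0 c)) := by
      intro c
      rw [hc1 1 0 c 2 (by decide)]
      exact hfr
    have p22 := hP 1 0 (by decide) p10
    have p02 := hP 2 2 (by decide) p22
    have p21 := hP 0 2 (by decide) p02
    have p20 := hP 2 1 (by decide) p21
    have p11 := hP 2 0 (by decide) p20
    have p01 := hP 1 1 (by decide) p11
    have p12 := hP 0 1 (by decide) p01
    intro a b c hab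
    have hi : ∀ a : ZMod 3, a = 0 ∨ a = 1 ∨ a = 2 := by decide
    rcases hi a with rfl | rfl | rfl
    · rcases hi b with rfl | rfl | rfl
      · exact absurd rfl hab
      · exact p01 c
      · exact p02 c
    · rcases hi b with rfl | rfl | rfl
      · exact p10 c
      · exact p11 c
      · exact p12 c
    · rcases hi b with rfl | rfl | rfl
      · exact p20 c
      · exact p21 c
      · exact p22 c
  -- fixed points of `Z` and of `U`
  have hZ : ∃ v : W, v ≠ 0 ∧ ∀ c, g 0 0 c v = v := by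
    obtain ⟨v, hv0, hv⟩ := exists_fix_Z (SS ρ) (V := W) (by rw [ZMod.card]; exact h3)
    refine ⟨v, hv0, fun c => ?_⟩
    show ρ (gU 0 0 c) v = v
    rw [gU_c]
    exact hv c
  obtain ⟨v, hv0, hv⟩ := exists_fix_27 hg0 hg h3 hreg hZ
  let M : Submodule 𝕜 W :=
    { carrier := {v | ∀ a b c, ρ (gU a b c) v = v}
      add_mem' := by
        intro v w hv hw a b c
        rw [map_add, hv, hw]
      zero_mem' := by
        intro a b c
        rw [map_zero]
      smul_mem' := by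
        intro k v hv a b c
        rw [map_smul, hv] }
  have hi : ∀ a : ZMod 3, a = 0 ∨ a = 1 ∨ a = 2 := by decide
  have hgen : ∀ w : W, ρ (gU 1 0 0) w = w → ρ (gU 0 1 0) w = w → ρ (gU 0 0 1) w = w → w ∈ M := by
    intro w ha hb hc
    have ha' : ∀ a, ρ (gU a 0 0) w = w := by
      intro a
      rcases hi a with rfl | rfl | rfl
      · rw [gU_zero, map_one]; rfl
      · exact ha
      · have e1 : gU 2 0 0 = gU 1 0 0 * gU 1 0 0 := by
          rw [gU_mul]
          congr 1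
        rw [e1, hap, ha, ha]
    have hb' : ∀ b, ρ (gU 0 b 0) w = w := by
      intro a
      rcases hi a with rfl | rfl | rfl
      · rw [gU_zero, map_one]; rfl
      · exact hb
      · have e1 : gU 0 2 0 = gU 0 1 0 * gU 0 1 0 := by
          rw [gU_mul]
          congr 1
        rw [e1, hap, hb, hb]
    have hc' : ∀ c, ρ (gU 0 0 c) w = w := by
      intro a
      rcases hi a with rfl | rfl | rfl
      · rw [gU_zero, map_one]; rfl
      · exact hc
      · have e1 : gU 0 0 2 = gU 0 0 1 * gU 0 0 1 := by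
          rw [gU_mul]
          congr 1
        rw [e1, hap, hc, hc]
    intro a b c
    rw [gU_gen, hap, hap, hc', hb', ha']
  have hMg : ∀ w ∈ M, ρ gam w ∈ M := by
    intro w hw
    apply hgen
    · rw [← hap, gam_a', hap, hw]
    · rw [← hap, gam_b', hap, hw]
    · rw [← hap, gam_c', hap, hw]
  obtain ⟨w, hwM, hw0, hgw⟩ := exists_fix_eight h2 (f := ρ gam) (fun v => by
    rw [← map_pow, gam_eight, map_one]; rfl) hMg (show v ∈ M from hv) hv0
  have hwU : ∀ a b c, ρ (gU a b c) w = w := hwM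
  have hgw' : ρ gam⁻¹ w = w := by
    conv_lhs => rw [← hgw]
    exact ap_inv ρ gam w
  -- the sum over `U`
  set N : Module.End 𝕜 W := ∑ a : ZMod 3, ∑ b : ZMod 3, ∑ c : ZMod 3, ρ (gU a b c) with hN
  have hNa : ∀ v, N v = ∑ a : ZMod 3, ∑ b : ZMod 3, ∑ c : ZMod 3, ρ (gU a b c) v := by
    intro v
    rw [hN, LinearMap.sum_apply]
    refine Finset.sum_congr rfl fun a _ => ?_
    rw [LinearMap.sum_apply]
    refine Finset.sum_congr rfl fun b _ => ?_
    rw [LinearMap.sum_apply]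
  have hNU : ∀ a b c v, N (ρ (gU a b c) v) = N v := by
    intro a b c v
    rw [hNa, hNa]
    refine Fintype.sum_equiv (Equiv.addRight a) _ _ fun x => ?_
    refine Fintype.sum_equiv (Equiv.addRight b) _ _ fun y => ?_
    refine Fintype.sum_equiv (Equiv.addRight (c + x * b)) _ _ fun z => ?_
    rw [← hap, gU_mul]
    show ρ (gU (x + a) (y + b) (z + c + x * b)) v = ρ (gU (x + a) (y + b) (z + (c + x * b))) v
    rw [add_assoc z]
  have hNw : N w = w := by
    rw [hNa]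
    simp_rw [hwU]
    rw [Finset.sum_const, Finset.sum_const, Finset.sum_const, Finset.card_univ, ZMod.card, smul_smul, smul_smul,
      ← Nat.cast_smul_eq_nsmul 𝕜]
    have e1 : ((3 * 3 * 3 : ℕ) : 𝕜) = 1 := by
      push_cast
      linear_combination 13 * h2
    rw [e1, one_smul]
  -- the elements of the torus
  have ht1 : N (ρ tt w) = N (ρ nn w) := by
    rw [tt, hap, hap, hwU, hgw]
  have hxw : ρ (gU 1 0 2)⁻¹ w = w := by
    conv_lhs => rw [← hwU 1 0 2]
    exact ap_inv ρ _ w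
  have hti : tt⁻¹ = (gU 0 1 1)⁻¹ * (nn * gam⁻¹) := by
    have e1 : nn * gam = gam * nn⁻¹ := eq_mul_inv_of_mul_eq nn_gam
    rw [tt, e1, _root_.mul_inv_rev, _root_.mul_inv_rev, inv_inv]
  have hNUi : ∀ a b c v, N (ρ (gU a b c)⁻¹ v) = N v := by
    intro a b c v
    rw [← hNU a b c, ap_inv']
  have ht6 : N (ρ tt⁻¹ w) = N (ρ nn w) := by
    rw [hti, hap, hap, hgw', hNUi]
  have hconj : ∀ s, N (ρ (gU 1 0 2 * s * (gU 1 0 2)⁻¹) w) = N (ρ s w) := by
    intro s
    rw [hap, hap, hxw, hNU]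
  have hc : gU 1 0 2 * tt * (gU 1 0 2)⁻¹ = tt ^ 2 := by rw [x_tt, mul_inv_cancel_right]
  have hc2' : gU 1 0 2 * tt ^ 2 * (gU 1 0 2)⁻¹ = tt ^ 4 := by
    rw [← conj_pow, hc, ← pow_mul]
  have h77 := pow_seven x_tt x_three
  have ht2 : N (ρ (tt ^ 2) w) = N (ρ nn w) := by rw [← hc, hconj, ht1]
  have ht4 : N (ρ (tt ^ 4) w) = N (ρ nn w) := by rw [← hc2', hconj, ht2]
  have hinv : ∀ m n : ℕ, m + n = 7 → tt ^ m = (tt ^ n)⁻¹ := by
    intro m n h
    rw [eq_inv_iff_mul_eq_one, ← pow_add, h, h77]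
  have ht6' : N (ρ (tt ^ 6) w) = N (ρ nn w) := by rw [hinv 6 1 rfl, pow_one, ht6]
  have ht5 : N (ρ (tt ^ 5) w) = N (ρ nn w) := by
    have e1 : tt ^ 5 = gU 1 0 2 * tt⁻¹ * (gU 1 0 2)⁻¹ := by
      rw [hinv 5 2 rfl, ← hc, _root_.mul_inv_rev, _root_.mul_inv_rev, inv_inv, mul_assoc]
    rw [e1, hconj, ht6]
  have ht3 : N (ρ (tt ^ 3) w) = N (ρ nn w) := by
    have e1 : tt ^ 3 = gU 1 0 2 * tt ^ 5 * (gU 1 0 2)⁻¹ := by
      rw [hinv 3 4 rfl, hinv 5 2 rfl, ← hc2', _root_.mul_inv_rev, _root_.mul_inv_rev, inv_inv, mul_assoc]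
    rw [e1, hconj, ht5]
  have hsum := Cfsg.Agent.H420.PG.sum_pow_eq_zero (f := ρ tt) (s := 7) (by rw [← map_pow, h77, map_one]) hfix w
  have hN0 := congrArg N hsum
  rw [map_zero, map_sum] at hN0
  simp only [← map_pow ρ] at hN0
  rw [Finset.sum_range_succ, Finset.sum_range_succ, Finset.sum_range_succ, Finset.sum_range_succ, Finset.sum_range_succ,
    Finset.sum_range_succ, Finset.sum_range_one, pow_zero, pow_one, map_one, Module.End.one_apply, ht1, ht2, ht3, ht4, ht5,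
    ht6', hNw] at hN0
  have h2' : ∀ w : W, w + w = 0 := by
    intro w
    rw [← two_smul 𝕜, h2, zero_smul]
  set y := N (ρ nn w)
  apply hw0
  have e1 : w + y + y + y + y + y + y = w + (y + y) + (y + y) + (y + y) := by abel
  rw [e1, h2', add_zero, add_zero, add_zero] at hN0
  exact hN0

end ExCore

end Cfsg.Agent.H420.PG.G2
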