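import Mathlib
import Cfsg.Agent.H420.PG.G2Wt
import Cfsg.Agent.H420.PG.G2Tor
import Cfsg.Agent.OddOrderLocal.FrobRep

/-!
# Modules of `SL₃(q)`, `q` a power of three, in cross characteristic: fixed points of subgroups of `U` (helper420)

`S` a representation of `SL₃(F)`, `|F|` a power of three, in characteristic `≠ 3`, such that the Singer torus has no fixed
points (`hsum`).
* `frob` : `dim V = 3 dim V^x`, `x` regular unipotent;
* `exists_fix_Z` : the centre of `U` has fixed points;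
* `exists_fix_R` : one of the two elation groups `R'`, `R''` has fixed points;
* `exists_fix_U` : if `R'` has fixed points then so has `U`.
-/

set_option autoImplicit false
set_option linter.unusedSectionVars false

namespace Cfsg.Agent.H420.PG.G2

open Matrix Module

section Mod

variable {F E 𝕜 V : Type*} [Field F] [Fintype F] [CharP F 3] [Field E] [Fintype E] [Algebra F E] [Field 𝕜]
  [AddCommGroup V] [Module 𝕜 V] (S : Matrix.SpecialLinearGroup (Fin 3) F →* Module.End 𝕜 V)

theorem S_apply (g h : Matrix.SpecialLinearGroup (Fin 3) F) (v : V) : S (g * h) v = S g (S h v) := by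
  rw [map_mul]; rfl

theorem S_inv (g : Matrix.SpecialLinearGroup (Fin 3) F) (v : V) : S g⁻¹ (S g v) = v := by
  rw [← S_apply, inv_mul_cancel, map_one]; rfl

theorem S_inv' (g : Matrix.SpecialLinearGroup (Fin 3) F) (v : V) : S g (S g⁻¹ v) = v := by
  rw [← S_apply, mul_inv_cancel, map_one]; rfl

theorem S_one (v : V) : S 1 v = v := by
  rw [map_one]; rfl

section Frob

variable [FiniteDimensional 𝕜 V] (e : Basis (Fin 3) F E) [Fintype (Tor F E)]

theorem frob (h3 : finrank F E = 3) (h0 : e 0 = 1) (h1 : phi F E (e 1) = e 0 + e 1)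
    (h2 : phi F E (e 2) = e 1 + e 2) (hT : ((Fintype.card F ^ 2 + Fintype.card F + 1 : ℕ) : 𝕜) ≠ 0)
    (hsum : ∀ v, ∑ t : Tor F E, S (psi e t) v = 0) : finrank 𝕜 V = 3 * finrank 𝕜 (fx (S (u 1 1 0))) := by
  have hc : Nat.card Gal(E/F) = 3 := by rw [IsGalois.card_aut_eq_finrank, h3]
  have hTc : ((Nat.card (Tor F E) : ℕ) : 𝕜) ≠ 0 := by rw [card_tor h3]; exact hT
  let ρ : Representation 𝕜 (Tor F E) V := S.comp (psi e)
  let τ : Representation 𝕜 Gal(E/F) V := S.comp (sgm e h3)
  have h := (Cfsg.Agent.OddOrderLocal.FrobRep.finrank_eq (F := 𝕜) (K := Tor F E) (R := Gal(E/F)) (V := V) hTc ρ τ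
    (act (F := F) (E := E)) (fun r k v => by
      show S (sgm e h3 r) (S (psi e k) v) = S (psi e (act r k)) (S (sgm e h3 r) v)
      rw [← S_apply, ← S_apply, sgm_psi]) (fun v hv => by
      have h4 := hsum v
      have h5 : ∀ t : Tor F E, S (psi e t) v = v := hv
      simp_rw [h5] at h4
      rw [Finset.sum_const, Finset.card_univ, ← Nat.cast_smul_eq_nsmul 𝕜, ← Nat.card_eq_fintype_card] at h4
      exact (smul_eq_zero.1 h4).resolve_left hTc) (fun r hr k hk => act_free h3 r hr k hk)).1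
  have h6 : Representation.invariants τ = fx (S (u 1 1 0)) := by
    ext v
    rw [Representation.mem_invariants, mem_fx, ← sgm_phi e h3 h0 h1 h2]
    constructor
    · intro hv
      exact hv (phi F E)
    · intro hv g
      obtain ⟨n, hn⟩ := (FiniteField.bijective_frobeniusAlgEquivOfAlgebraic_pow F E).2 g
      have h7 : ∀ n : ℕ, τ (phi F E ^ n) v = v := by
        intro n
        induction n with
        | zero => rw [pow_zero, map_one]; rfl
        | succ n ih =>
          rw [pow_succ, map_mul, Module.End.mul_apply]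
          have h8 : τ (phi F E) v = v := hv
          rw [h8, ih]
      rw [← hn]
      exact h7 _
  rw [h, hc, h6]

end Frob

/-! ### Fixed points of the centre of `U` -/

theorem u_a_b (a b : F) : u 0 b 0 * u a 0 0 * u 0 (-b) 0 = u a 0 0 * u 0 0 (-(a * b)) := by
  rw [u_mul, u_mul, u_mul]
  congr 1 <;> ring

theorem exists_fix_Z [Nontrivial V] (hq : (Fintype.card F : 𝕜) ≠ 0) : ∃ v : V, v ≠ 0 ∧ ∀ c, S (u 0 0 c) v = v := by
  classical
  by_contra hcon
  push Not at hcon
  have h1 : ∀ v : V, (∀ c, S (u 0 0 c) v = v) → v = 0 := by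
    intro v hv
    by_contra h
    obtain ⟨c, hc⟩ := hcon v h
    exact hc (hv c)
  have h2 : ∀ v : V, ∑ c, S (u 0 0 c) v = 0 := by
    intro v
    apply h1
    intro c
    rw [map_sum]
    refine Fintype.sum_equiv (Equiv.addLeft c) _ _ fun x => ?_
    rw [← S_apply, u_mul]
    congr 2
    show _ = u 0 0 (c + x)
    congr 1 <;> ring
  have h3 : ∀ v : V, ∑ a, S (u a 0 0) v = 0 := by
    intro v
    have h4 : ∀ a, S (u a 0 0) v = S n2 (S (u 0 0 a) (S n2⁻¹ v)) := by
      intro a
      rw [← S_apply, n2_u, neg_zero, S_apply, S_inv']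
    simp_rw [h4]
    rw [← map_sum, h2, map_zero]
  obtain ⟨v, hv⟩ := exists_ne (0 : V)
  apply hv
  have h5 : ∑ b, S (u 0 b 0) (∑ a, S (u a 0 0) (S (u 0 (-b) 0) v)) = (Fintype.card F : 𝕜) • v := by
    have h6 : ∀ a, ∑ b, S (u a 0 0) (S (u 0 0 (-(a * b))) v) = if a = 0 then (Fintype.card F : 𝕜) • v else 0 := by
      intro a
      split_ifs with h
      · subst h
        simp only [zero_mul, neg_zero, u_zero, S_one]
        rw [Finset.sum_const, Finset.card_univ, ← Nat.cast_smul_eq_nsmul 𝕜]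
      · rw [← map_sum]
        have h7 : ∑ b, S (u 0 0 (-(a * b))) v = ∑ c, S (u 0 0 c) v :=
          Fintype.sum_equiv ((Equiv.mulLeft₀ a h).trans (Equiv.neg F)) _ _ fun x => rfl
        rw [h7, h2, map_zero]
    have h8 : ∀ b, S (u 0 b 0) (∑ a, S (u a 0 0) (S (u 0 (-b) 0) v)) = ∑ a, S (u a 0 0) (S (u 0 0 (-(a * b))) v) := by
      intro b
      rw [map_sum]
      refine Finset.sum_congr rfl fun a _ => ?_
      rw [← S_apply, ← S_apply, ← S_apply, u_a_b]
    simp_rw [h8]
    rw [Finset.sum_comm]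
    simp_rw [h6]
    rw [Finset.sum_ite_eq' Finset.univ (0 : F), if_pos (Finset.mem_univ _)]
  have h9 : ∑ b, S (u 0 b 0) (∑ a, S (u a 0 0) (S (u 0 (-b) 0) v)) = 0 := by
    refine Finset.sum_eq_zero fun b _ => ?_
    rw [h3, map_zero]
  rw [h9] at h5
  exact (smul_eq_zero.1 h5.symm).resolve_left hq

/-! ### Conjugation of the regular unipotent elements -/

theorem exists_conj {a b : F} (ha : a ≠ 0) (hb : b ≠ 0) (c : F) : ∃ g, g * u (1 : F) 1 0 = u a b c * g := by
  obtain ⟨y, hy⟩ := exists_cube (b / a)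
  have hy0 : y ≠ 0 := by
    rintro rfl
    have : b / a ≠ 0 := div_ne_zero hb ha
    apply this
    rw [← hy]; ring
  have hD := D_mul_u (Units.mk0 a ha * Units.mk0 y hy0, Units.mk0 y hy0) 1 1 0
  have e1 : ((Units.mk0 a ha * Units.mk0 y hy0 : Fˣ) : F) = a * y := rfl
  simp only [e1, Units.val_mk0] at hD
  have e2 : a * y * y⁻¹ * 1 = a := by
    field_simp
  have e3 : a * y * y ^ 2 * 1 = b := by
    have : a * y * y ^ 2 * 1 = a * y ^ 3 := by ring
    rw [this, hy]
    field_simp
  rw [e2, e3, mul_zero] at hD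
  refine ⟨u (c / b) 0 0 * D (Units.mk0 a ha * Units.mk0 y hy0, Units.mk0 y hy0), ?_⟩
  rw [mul_assoc, hD, ← mul_assoc, ← mul_assoc, u_mul, u_mul]
  congr 2
  · ring
  · ring
  · field_simp
    ring

theorem finrank_reg {a b : F} (ha : a ≠ 0) (hb : b ≠ 0) (c : F) :
    finrank 𝕜 (fx (S (u a b c))) = finrank 𝕜 (fx (S (u 1 1 0))) := by
  obtain ⟨g, hg⟩ := exists_conj ha hb c
  refine (finrank_conj (h := S g) (h' := S g⁻¹) ?_ ?_ ?_).symm
  · rw [← map_mul, mul_inv_cancel, map_one]
  · rw [← map_mul, inv_mul_cancel, map_one]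
  · rw [← map_mul, ← map_mul, hg]

/-! ### The fixed points of the centre as a module of `U / Z` -/

/-- the fixed points of the centre of `U` -/
def V0 : Submodule 𝕜 V where
  carrier := {v | ∀ c, S (u 0 0 c) v = v}
  add_mem' := by
    intro v w hv hw c
    rw [map_add, hv, hw]
  zero_mem' := by
    intro c
    rw [map_zero]
  smul_mem' := by
    intro k v hv c
    rw [map_smul, hv]

theorem mem_V0 {v : V} : v ∈ V0 S ↔ ∀ c, S (u 0 0 c) v = v := Iff.rfl

theorem u_V0 (a b c : F) {v : V} (hv : v ∈ V0 S) : S (u a b c) v ∈ V0 S := by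
  intro d
  have h1 : u 0 0 d * u a b c = u a b c * u 0 0 d := by
    rw [u_mul, u_mul]
    congr 1 <;> ring
  rw [← S_apply, h1, S_apply, hv d]

theorem u_V0_apply (a b c : F) {v : V} (hv : v ∈ V0 S) : S (u a b c) v = S (u a b 0) v := by
  have h1 : u a b c = u a b 0 * u 0 0 c := by
    rw [u_mul]
    congr 1 <;> ring
  rw [h1, S_apply, hv c]

/-- the action of `U / Z` -/
def R0 (p : F × F) : Module.End 𝕜 (V0 S) := (S (u p.1 p.2 0)).restrict fun _ hv => u_V0 S p.1 p.2 0 hv

theorem R0_coe (p : F × F) (v : V0 S) : ((R0 S p v : V0 S) : V) = S (u p.1 p.2 0) v := rfl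

theorem R0_zero : R0 S (0 : F × F) = 1 := by
  ext v
  rw [R0_coe]
  show S (u 0 0 0) (v : V) = v
  rw [u_zero, S_one]

theorem R0_add (p p' : F × F) : R0 S (p + p') = R0 S p * R0 S p' := by
  ext v
  rw [Module.End.mul_apply, R0_coe, R0_coe, R0_coe, ← S_apply, u_mul, ← u_V0_apply S _ _ (0 + 0 + p.1 * p'.2) v.2]
  rfl

theorem card3_ne (hq : (Fintype.card F : 𝕜) ≠ 0) : ((3 : ℕ) : 𝕜) ≠ 0 := by
  obtain ⟨n, hp, hn⟩ := FiniteField.card F 3
  intro h
  apply hq
  rw [hn, Nat.cast_pow, h, zero_pow n.ne_zero]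

variable [IsAlgClosed 𝕜] [FiniteDimensional 𝕜 V]

theorem three_add (a : F) : a + a + a = 0 := by
  have h : (3 : F) = 0 := by exact_mod_cast CharP.cast_eq_zero F 3
  linear_combination a * h

/-- `dim V₀ = 3 dim V₀^g` for the regular elements `g` of `U / Z` -/
theorem finrank_R0 (hq : (Fintype.card F : 𝕜) ≠ 0) (hfr : finrank 𝕜 V = 3 * finrank 𝕜 (fx (S (u 1 1 0))))
    {a b : F} (ha : a ≠ 0) (hb : b ≠ 0) : finrank 𝕜 (V0 S) = 3 * finrank 𝕜 (fx (R0 S (a, b))) := by
  classical
  have hM : ∃ M : Submodule 𝕜 V, ∀ v, v ∈ M ↔ v ∈ V0 S ∧ S (u a b 0) v = v :=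
    ⟨V0 S ⊓ fx (S (u a b 0)), fun v => by rw [Submodule.mem_inf, mem_fx]⟩
  obtain ⟨M, hM⟩ := hM
  have hMf : finrank 𝕜 M = finrank 𝕜 (fx (R0 S (a, b))) := by
    have h1 : M ≤ V0 S := fun v hv => ((hM v).1 hv).1
    have h2 : fx (R0 S (a, b)) = M.comap (V0 S).subtype := by
      ext v
      rw [mem_fx, Submodule.mem_comap, hM]
      constructor
      · intro h
        exact ⟨v.2, congrArg Subtype.val h⟩
      · intro h
        exact Subtype.ext h.2
    rw [h2]
    exact (Submodule.comapSubtypeEquivOfLe h1).finrank_eq.symm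
  have h3 := card3_ne hq
  -- the formula for `Z`
  have hZ := dim3 (A := F) (𝕜 := 𝕜) (V := V) three_add hq (fun c => S (u 0 0 c)) (by
    show S (u 0 0 0) = 1
    rw [u_zero, map_one]) (fun c d => by
    rw [← map_mul, u_mul]
    congr 2 <;> ring) (M := V0 S) (fun v => Iff.rfl)
  -- the formula for `Z × ⟨g⟩`
  have h30 : (3 : F) = 0 := by exact_mod_cast CharP.cast_eq_zero F 3
  let κ : ZMod 3 →+* F := ZMod.castHom (dvd_refl 3) F
  have hκ : ∀ i : ZMod 3, i ≠ 0 → κ i ≠ 0 := fun i hi h => hi (κ.injective (by rw [h, map_zero]))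
  have hZx := dim3 (A := ZMod 3 × F) (𝕜 := 𝕜) (V := V) (fun x => by
      apply Prod.ext
      · show x.1 + x.1 + x.1 = 0
        generalize x.1 = y
        revert y
        decide
      · exact three_add _) (by
      rw [Fintype.card_prod, ZMod.card, Nat.cast_mul]
      exact mul_ne_zero h3 hq)
    (fun x => S (u (κ x.1 * a) (κ x.1 * b) (x.2 - (κ x.1) ^ 2 * (a * b)))) (by
      show S (u (κ 0 * a) (κ 0 * b) (0 - (κ 0) ^ 2 * (a * b))) = 1
      rw [map_zero, ← map_one S, ← u_zero]
      congr 2 <;> ring) (fun x y => by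
      rw [← map_mul, u_mul]
      show S (u (κ (x.1 + y.1) * a) (κ (x.1 + y.1) * b) (x.2 + y.2 - (κ (x.1 + y.1)) ^ 2 * (a * b))) = _
      rw [map_add]
      congr 2
      · ring
      · ring
      · linear_combination -(κ x.1 * κ y.1 * a * b) * h30) (M := M) (fun v => by
      rw [hM]
      constructor
      · rintro ⟨hv, hg⟩ ⟨i, z⟩
        show S (u (κ i * a) (κ i * b) (z - (κ i) ^ 2 * (a * b))) v = v
        rw [u_V0_apply S _ _ _ hv]
        have hi : i = 0 ∨ i = 1 ∨ i = 2 := by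
          revert i
          decide
        rcases hi with rfl | rfl | rfl
        · rw [map_zero, zero_mul, zero_mul, u_zero, S_one]
        · rw [map_one, one_mul, one_mul, hg]
        · have h4 : κ 2 = 1 + 1 := by
            rw [← map_one κ, ← map_add]
            rfl
          have h5 := S_apply S (u a b 0) (u a b 0) v
          rw [u_mul, u_V0_apply S _ _ _ hv, hg, hg] at h5
          rw [h4, show (1 + 1 : F) * a = a + a by ring, show (1 + 1 : F) * b = b + b by ring]
          exact h5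
      · intro h
        constructor
        · intro c
          have h4 := h (0, c)
          simp only [map_zero, zero_mul] at h4
          rw [show c - (0 : F) ^ 2 * (a * b) = c by ring] at h4
          exact h4
        · have h4 := h (1, a * b)
          simp only [map_one, one_mul] at h4
          rw [show a * b - (1 : F) ^ 2 * (a * b) = 0 by ring] at h4
          exact h4)
  rw [Fintype.card_prod, ZMod.card, Fintype.sum_prod_type] at hZx
  have hsum3 : ∀ f : ZMod 3 → ℕ, ∑ i, f i = f 0 + f 1 + f 2 := by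
    intro f
    exact Fin.sum_univ_three f
  rw [hsum3] at hZx
  have e0 : ∑ z : F, finrank 𝕜 (fx (S (u (κ ((0 : ZMod 3), z).1 * a) (κ ((0 : ZMod 3), z).1 * b)
      (((0 : ZMod 3), z).2 - (κ ((0 : ZMod 3), z).1) ^ 2 * (a * b))))) = ∑ z : F, finrank 𝕜 (fx (S (u 0 0 z))) := by
    refine Finset.sum_congr rfl fun z _ => ?_
    have h4 : u (κ 0 * a) (κ 0 * b) (z - (κ 0) ^ 2 * (a * b)) = u 0 0 z := by
      rw [map_zero]
      congr 1 <;> ring
    show finrank 𝕜 (fx (S (u (κ 0 * a) (κ 0 * b) (z - (κ 0) ^ 2 * (a * b))))) = _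
    rw [h4]
  have e1 : ∀ i : ZMod 3, i ≠ 0 → ∑ z : F, finrank 𝕜 (fx (S (u (κ (i, z).1 * a) (κ (i, z).1 * b)
      ((i, z).2 - (κ (i, z).1) ^ 2 * (a * b))))) = Fintype.card F * finrank 𝕜 (fx (S (u 1 1 0))) := by
    intro i hi
    rw [Finset.sum_congr rfl (g := fun _ => finrank 𝕜 (fx (S (u 1 1 0)))), Finset.sum_const, Finset.card_univ, smul_eq_mul]
    intro z _
    exact finrank_reg S (mul_ne_zero (hκ i hi) ha) (mul_ne_zero (hκ i hi) hb) _
  rw [e0, e1 1 (by decide), e1 2 (by decide)] at hZx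
  rw [← hMf]
  set σ := ∑ z : F, finrank 𝕜 (fx (S (u 0 0 z)))
  set m := finrank 𝕜 M
  set n0 := finrank 𝕜 (V0 S)
  set f := finrank 𝕜 (fx (S (u 1 1 0)))
  rw [hfr] at hZ hZx
  have hqpos : 0 < Fintype.card F := Fintype.card_pos
  have h7 : Fintype.card F * n0 = Fintype.card F * (3 * m) := by nlinarith
  exact Nat.eq_of_mul_eq_mul_left hqpos h7

/-- **One of the two elation groups has fixed points.** -/
theorem exists_fix_R [Nontrivial V] (hq : (Fintype.card F : 𝕜) ≠ 0)
    (hfr : finrank 𝕜 V = 3 * finrank 𝕜 (fx (S (u 1 1 0)))) :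
    (∃ v : V, v ≠ 0 ∧ ∀ a c, S (u a 0 c) v = v) ∨ ∃ v : V, v ≠ 0 ∧ ∀ b c, S (u 0 b c) v = v := by
  classical
  by_contra hcon
  push Not at hcon
  obtain ⟨hA, hB⟩ := hcon
  have hA' : ∀ v : V, (∀ a c, S (u a 0 c) v = v) → v = 0 := by
    intro v hv
    by_contra h
    obtain ⟨a, c, hac⟩ := hA v h
    exact hac (hv a c)
  have hB' : ∀ v : V, (∀ b c, S (u 0 b c) v = v) → v = 0 := by
    intro v hv
    by_contra h
    obtain ⟨b, c, hbc⟩ := hB v h
    exact hbc (hv b c)
  have hq2 : (Fintype.card (F × F) : 𝕜) ≠ 0 := by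
    rw [Fintype.card_prod, Nat.cast_mul]
    exact mul_ne_zero hq hq
  -- the formula for `X_a`
  have h1 := dim3 (A := F) (𝕜 := 𝕜) (V := V0 S) three_add hq (fun a => R0 S (a, 0)) (R0_zero S) (fun a b => by
    rw [← R0_add, Prod.mk_add_mk, add_zero]) (M := ⊥) (fun v => by
    rw [Submodule.mem_bot]
    constructor
    · rintro rfl a
      rw [map_zero]
    · intro hv
      apply Subtype.ext
      apply hA'
      intro a c
      rw [u_V0_apply S _ _ _ v.2]
      exact congrArg Subtype.val (hv a))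
  have h2 := dim3 (A := F) (𝕜 := 𝕜) (V := V0 S) three_add hq (fun b => R0 S (0, b)) (R0_zero S) (fun a b => by
    rw [← R0_add, Prod.mk_add_mk, add_zero]) (M := ⊥) (fun v => by
    rw [Submodule.mem_bot]
    constructor
    · rintro rfl a
      rw [map_zero]
    · intro hv
      apply Subtype.ext
      apply hB'
      intro a c
      rw [u_V0_apply S _ _ _ v.2]
      exact congrArg Subtype.val (hv a))
  have h3 := dim3 (A := F × F) (𝕜 := 𝕜) (V := V0 S) (fun x => Prod.ext (three_add _) (three_add _)) hq2 (R0 S) (R0_zero S)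
    (R0_add S) (M := ⊥) (fun v => by
    rw [Submodule.mem_bot]
    constructor
    · rintro rfl a
      rw [map_zero]
    · intro hv
      apply Subtype.ext
      apply hA'
      intro a c
      rw [u_V0_apply S _ _ _ v.2]
      exact congrArg Subtype.val (hv (a, 0)))
  rw [finrank_bot, mul_zero, add_zero] at h1 h2 h3
  rw [Fintype.card_prod, Fintype.sum_prod_type] at h3
  set g : F → F → ℕ := fun a b => finrank 𝕜 (fx (R0 S (a, b))) with hg
  set n0 := finrank 𝕜 (V0 S) with hn0
  have h4 : g 0 0 = n0 := by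
    rw [hg]
    show finrank 𝕜 (fx (R0 S (0 : F × F))) = _
    rw [R0_zero, fx_one, finrank_top]
  have h5 : ∀ a b, a ≠ 0 → b ≠ 0 → 3 * g a b = n0 := fun a b ha hb => (finrank_R0 S hq hfr ha hb).symm
  have h1' : 3 * ∑ a, g a 0 = Fintype.card F * n0 := h1
  have h2' : 3 * ∑ b, g 0 b = Fintype.card F * n0 := h2
  have h3' : 3 * ∑ a, ∑ b, g a b = Fintype.card F * Fintype.card F * n0 := h3
  -- the sum over the regular elements
  obtain ⟨k, hk⟩ : ∃ k, Fintype.card F = k + 1 := ⟨Fintype.card F - 1, by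
    have := Fintype.card_pos (α := F); omega⟩
  have hec : (Finset.univ.erase (0 : F)).card = k := by
    rw [Finset.card_erase_of_mem (Finset.mem_univ _), Finset.card_univ, hk, Nat.add_sub_cancel]
  have h6 : ∀ a : F, ∑ b, g a b = g a 0 + ∑ b ∈ Finset.univ.erase 0, g a b := fun a =>
    (Finset.add_sum_erase _ _ (Finset.mem_univ _)).symm
  have h7 : ∑ a, ∑ b, g a b = ∑ a, g a 0 + ∑ a, ∑ b ∈ Finset.univ.erase 0, g a b := by
    rw [← Finset.sum_add_distrib]
    exact Finset.sum_congr rfl fun a _ => h6 a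
  have h8 : ∑ a, ∑ b ∈ Finset.univ.erase 0, g a b = ∑ b ∈ Finset.univ.erase 0, g 0 b +
      ∑ a ∈ Finset.univ.erase 0, ∑ b ∈ Finset.univ.erase 0, g a b :=
    (Finset.add_sum_erase _ _ (Finset.mem_univ _)).symm
  have h9 : 3 * ∑ a ∈ Finset.univ.erase (0 : F), ∑ b ∈ Finset.univ.erase 0, g a b = k * (k * n0) := by
    rw [Finset.mul_sum, Finset.sum_congr rfl (g := fun _ => k * n0), Finset.sum_const, hec, smul_eq_mul]
    intro a ha
    rw [Finset.mul_sum, Finset.sum_congr rfl (g := fun _ => n0), Finset.sum_const, hec, smul_eq_mul]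
    intro b hb
    exact h5 a b (Finset.mem_erase.1 ha).1 (Finset.mem_erase.1 hb).1
  have h10 := h6 0
  rw [h4] at h10
  rw [h7, h8] at h3'
  rw [hk] at h1' h2' h3'
  have h11 : n0 = 0 := by nlinarith
  -- but `V₀ ≠ 0`
  obtain ⟨v, hv0, hv⟩ := exists_fix_Z S (V := V) hq
  have h12 : V0 S = ⊥ := Submodule.finrank_eq_zero.1 h11
  apply hv0
  have h13 : v ∈ V0 S := hv
  rw [h12, Submodule.mem_bot] at h13
  exact h13

end Mod

end Cfsg.Agent.H420.PG.G2
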