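import Mathlib

/-!
# Explicit elements of `SL₃` (helper420)

* `u a b c` : the upper unitriangular matrix with entries `a = (1,2)`, `b = (2,3)`, `c = (1,3)`;
* `D (a, b)` : the diagonal matrix `diag(a, b, (ab)⁻¹)`;
* `n1`, `n2` : the reflections;
* `cellA`, `cellB`, `cellC` : the Bruhat cells of the rotations and of the longest element.
-/

set_option autoImplicit false
set_option linter.unusedSimpArgs false

namespace Cfsg.Agent.H420.PG.G2

open Matrix

variable {F : Type*} [Field F]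

theorem eqM {M N : Matrix.SpecialLinearGroup (Fin 3) F} (h : (M : Matrix (Fin 3) (Fin 3) F) = (N : Matrix (Fin 3) (Fin 3) F)) :
    M = N := Subtype.ext h

/-- unitriangular matrices -/
def u (a b c : F) : Matrix.SpecialLinearGroup (Fin 3) F :=
  ⟨!![1, a, c; 0, 1, b; 0, 0, 1], by rw [det_fin_three]; simp⟩

theorem u_coe (a b c : F) : (u a b c : Matrix (Fin 3) (Fin 3) F) = !![1, a, c; 0, 1, b; 0, 0, 1] := rfl

theorem u_mul (a b c a' b' c' : F) : u a b c * u a' b' c' = u (a + a') (b + b') (c + c' + a * b') := by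
  apply eqM
  rw [Matrix.SpecialLinearGroup.coe_mul, u_coe, u_coe, u_coe]
  ext i j
  fin_cases i <;> fin_cases j <;> simp [Matrix.mul_apply, Fin.sum_univ_succ] <;> ring

theorem u_zero : u (0 : F) 0 0 = 1 := by
  apply eqM
  rw [Matrix.SpecialLinearGroup.coe_one, u_coe]
  ext i j
  fin_cases i <;> fin_cases j <;> simp

theorem u_inv (a b c : F) : (u a b c)⁻¹ = u (-a) (-b) (-c + a * b) := by
  rw [inv_eq_iff_mul_eq_one, u_mul, ← u_zero]
  congr 1 <;> ring

/-- diagonal matrices -/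
def D : Fˣ × Fˣ →* Matrix.SpecialLinearGroup (Fin 3) F where
  toFun p := ⟨!![(p.1 : F), 0, 0; 0, p.2, 0; 0, 0, ((p.1 * p.2)⁻¹ : Fˣ)], by
    rw [det_fin_three]
    simp only [Matrix.of_apply, Matrix.cons_val', Matrix.cons_val_zero, Matrix.cons_val_one, Matrix.cons_val,
      mul_zero, zero_mul, sub_zero, add_zero]
    rw [← Units.val_mul, ← Units.val_mul, mul_inv_cancel, Units.val_one]⟩
  map_one' := by
    apply eqM
    rw [Matrix.SpecialLinearGroup.coe_one, Matrix.SpecialLinearGroup.coe_mk]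
    ext i j
    fin_cases i <;> fin_cases j <;> simp
  map_mul' p q := by
    apply eqM
    show _ = (_ : Matrix (Fin 3) (Fin 3) F) * (_ : Matrix (Fin 3) (Fin 3) F)
    ext i j
    fin_cases i <;> fin_cases j <;> simp [Matrix.mul_apply, Fin.sum_univ_succ]; ring

theorem D_coe (p : Fˣ × Fˣ) : (D p : Matrix (Fin 3) (Fin 3) F) =
    !![(p.1 : F), 0, 0; 0, p.2, 0; 0, 0, ((p.1 * p.2)⁻¹ : Fˣ)] := rfl

/-- the action of `D` on `U` -/
theorem D_mul_u (p : Fˣ × Fˣ) (a b c : F) : D p * u a b c =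
    u (p.1 * (p.2 : F)⁻¹ * a) (p.1 * p.2 ^ 2 * b) (p.1 ^ 2 * p.2 * c) * D p := by
  obtain ⟨x, y⟩ := p
  apply eqM
  rw [Matrix.SpecialLinearGroup.coe_mul, Matrix.SpecialLinearGroup.coe_mul, D_coe, u_coe, u_coe]
  have hx := x.ne_zero
  have hy := y.ne_zero
  ext i j
  fin_cases i <;> fin_cases j <;> simp [Matrix.mul_apply, Fin.sum_univ_succ] <;> field_simp

/-- the first reflection -/
def n1 : Matrix.SpecialLinearGroup (Fin 3) F := ⟨!![0, 1, 0; -1, 0, 0; 0, 0, 1], by rw [det_fin_three]; simp⟩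

/-- the second reflection -/
def n2 : Matrix.SpecialLinearGroup (Fin 3) F := ⟨!![1, 0, 0; 0, 0, 1; 0, -1, 0], by rw [det_fin_three]; simp⟩

theorem n1_coe : ((n1 : Matrix.SpecialLinearGroup (Fin 3) F) : Matrix (Fin 3) (Fin 3) F) = !![0, 1, 0; -1, 0, 0; 0, 0, 1] := rfl
theorem n2_coe : ((n2 : Matrix.SpecialLinearGroup (Fin 3) F) : Matrix (Fin 3) (Fin 3) F) = !![1, 0, 0; 0, 0, 1; 0, -1, 0] := rfl

theorem n1_mul_n1 : (n1 : Matrix.SpecialLinearGroup (Fin 3) F) * n1 = D (-1, -1) := by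
  apply eqM
  rw [Matrix.SpecialLinearGroup.coe_mul, n1_coe, D_coe]
  ext i j
  fin_cases i <;> fin_cases j <;> simp [Matrix.mul_apply, Fin.sum_univ_succ]

theorem n1_u (b c : F) : (n1 : Matrix.SpecialLinearGroup (Fin 3) F) * u 0 b c = u 0 (-c) b * n1 := by
  apply eqM
  rw [Matrix.SpecialLinearGroup.coe_mul, Matrix.SpecialLinearGroup.coe_mul, n1_coe, u_coe, u_coe]
  ext i j
  fin_cases i <;> fin_cases j <;> simp [Matrix.mul_apply, Fin.sum_univ_succ]

theorem n2_u (a c : F) : (n2 : Matrix.SpecialLinearGroup (Fin 3) F) * u a 0 c = u c 0 (-a) * n2 := by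
  apply eqM
  rw [Matrix.SpecialLinearGroup.coe_mul, Matrix.SpecialLinearGroup.coe_mul, n2_coe, u_coe, u_coe]
  ext i j
  fin_cases i <;> fin_cases j <;> simp [Matrix.mul_apply, Fin.sum_univ_succ]

/-- `n₁ x₁₂(t) n₁` in the big cell of the first rank one group -/
theorem n1_u_n1 (t : Fˣ) : (n1 : Matrix.SpecialLinearGroup (Fin 3) F) * u (t : F) 0 0 * n1 =
    u (-(t : F)⁻¹) 0 0 * D (-t⁻¹, -t) * (n1 * u (-(t : F)⁻¹) 0 0) := by
  apply eqM
  have ht := t.ne_zero
  simp only [Matrix.SpecialLinearGroup.coe_mul, n1_coe, D_coe, u_coe]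
  ext i j
  fin_cases i <;> fin_cases j <;> simp [Matrix.mul_apply, Fin.sum_univ_succ, ht]

theorem n1_D (p : Fˣ × Fˣ) : (n1 : Matrix.SpecialLinearGroup (Fin 3) F) * D p = D (p.2, p.1) * n1 := by
  obtain ⟨x, y⟩ := p
  apply eqM
  rw [Matrix.SpecialLinearGroup.coe_mul, Matrix.SpecialLinearGroup.coe_mul, n1_coe, D_coe, D_coe]
  ext i j
  fin_cases i <;> fin_cases j <;> simp [Matrix.mul_apply, Fin.sum_univ_succ, mul_comm]

theorem n2_D (p : Fˣ × Fˣ) : (n2 : Matrix.SpecialLinearGroup (Fin 3) F) * D p = D (p.1, (p.1 * p.2)⁻¹) * n2 := by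
  obtain ⟨x, y⟩ := p
  apply eqM
  rw [Matrix.SpecialLinearGroup.coe_mul, Matrix.SpecialLinearGroup.coe_mul, n2_coe, D_coe, D_coe]
  ext i j
  fin_cases i <;> fin_cases j <;> simp [Matrix.mul_apply, Fin.sum_univ_succ]

theorem eq_of_entries {M N : Matrix.SpecialLinearGroup (Fin 3) F} (h : ∀ i j, M.1 i j = N.1 i j) : M = N :=
  Subtype.ext (Matrix.ext h)

theorem det_eq (M : Matrix.SpecialLinearGroup (Fin 3) F) :
    M.1 0 0 * M.1 1 1 * M.1 2 2 - M.1 0 0 * M.1 1 2 * M.1 2 1 - M.1 0 1 * M.1 1 0 * M.1 2 2 +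
      M.1 0 1 * M.1 1 2 * M.1 2 0 + M.1 0 2 * M.1 1 0 * M.1 2 1 - M.1 0 2 * M.1 1 1 * M.1 2 0 = 1 := by
  have h := M.2
  rw [det_fin_three] at h
  exact h

/-- type `C` : the big cell -/
theorem cellC (M : Matrix.SpecialLinearGroup (Fin 3) F) (h1 : M.1 2 0 ≠ 0)
    (h2 : M.1 1 0 * M.1 2 1 - M.1 1 1 * M.1 2 0 ≠ 0) :
    ∃ a b c a' b' c' : F, ∃ p : Fˣ × Fˣ, M = u a b c * (n1 * n2 * n1) * D p * u a' b' c' := by
  have hd := det_eq M
  set m00 := M.1 0 0
  set m01 := M.1 0 1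
  set m02 := M.1 0 2
  set m10 := M.1 1 0
  set m11 := M.1 1 1
  set m12 := M.1 1 2
  set m20 := M.1 2 0
  set m21 := M.1 2 1
  set m22 := M.1 2 2
  have h3 : m11 - m10 / m20 * m21 ≠ 0 := by
    intro h
    apply h2
    field_simp at h
    linear_combination -h
  set y := m11 - m10 / m20 * m21 with hy
  have hyu : -y ≠ 0 := neg_ne_zero.2 h3
  refine ⟨(m01 - m00 / m20 * m21) / y, m10 / m20, m00 / m20, m21 / m20, (m12 - m10 * m22 / m20) / y, m22 / m20,
    (Units.mk0 m20 h1, Units.mk0 (-y) hyu), eq_of_entries ?_⟩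
  have hy' : y * m20 = m11 * m20 - m10 * m21 := by
    rw [hy]; field_simp
  have hx : -(m20 * y) * (m02 - (m01 - m00 / m20 * m21) / y * (m12 - m10 * m22 / m20) - m00 / m20 * m22) = 1 := by
    have e : -(m20 * y) * (m02 - (m01 - m00 / m20 * m21) / y * (m12 - m10 * m22 / m20) - m00 / m20 * m22) =
        -(m20 * y) * m02 + m20 * (m01 - m00 / m20 * m21) * (m12 - m10 * m22 / m20) + y * m00 * m22 := by
      field_simp
      ring
    rw [e, hy]
    field_simp
    linear_combination (m20) * hd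
  have hz : ((Units.mk0 m20 h1 * Units.mk0 (-y) hyu : Fˣ)⁻¹ : F) =
      m02 - (m01 - m00 / m20 * m21) / y * (m12 - m10 * m22 / m20) - m00 / m20 * m22 := by
    rw [Units.val_mul, Units.val_mk0, Units.val_mk0]
    rw [show m20 * -y = -(m20 * y) by ring]
    exact (eq_inv_of_mul_eq_one_right hx).symm
  intro i j
  simp only [Matrix.SpecialLinearGroup.coe_mul, n1_coe, n2_coe, D_coe, u_coe, Units.val_inv_eq_inv_val]
  rw [hz]
  fin_cases i <;> fin_cases j
  · simp [Matrix.mul_apply, Fin.sum_univ_succ]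
    field_simp
    rfl
  · simp [Matrix.mul_apply, Fin.sum_univ_succ]
    field_simp
    ring
  · simp [Matrix.mul_apply, Fin.sum_univ_succ]
    field_simp
    ring
  · simp [Matrix.mul_apply, Fin.sum_univ_succ]
    field_simp
    rfl
  · simp [Matrix.mul_apply, Fin.sum_univ_succ]
    show m11 = _
    rw [hy]
    field_simp
    ring
  · simp [Matrix.mul_apply, Fin.sum_univ_succ]
    show m12 = _
    field_simp
    ring
  · simp [Matrix.mul_apply, Fin.sum_univ_succ]
    rfl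
  · simp [Matrix.mul_apply, Fin.sum_univ_succ]
    field_simp
    rfl
  · simp [Matrix.mul_apply, Fin.sum_univ_succ]
    field_simp
    rfl

/-- type `A` -/
theorem cellA (M : Matrix.SpecialLinearGroup (Fin 3) F) (h0 : M.1 2 0 = 0) (h1 : M.1 1 0 ≠ 0) (h2 : M.1 2 1 ≠ 0) :
    ∃ a b c a' b' c' : F, ∃ p : Fˣ × Fˣ, M = u a b c * (n1 * n2) * D p * u a' b' c' := by
  have hd := det_eq M
  set m00 := M.1 0 0
  set m01 := M.1 0 1
  set m02 := M.1 0 2
  set m10 := M.1 1 0
  set m11 := M.1 1 1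
  set m12 := M.1 1 2
  set m20 := M.1 2 0
  set m21 := M.1 2 1
  set m22 := M.1 2 2
  refine ⟨m00 / m10, 0, (m01 - m00 / m10 * m11) / m21, m11 / m10, m22 / m21, m12 / m10,
    (Units.mk0 (-m10) (neg_ne_zero.2 h1), Units.mk0 (-m21) (neg_ne_zero.2 h2)), eq_of_entries ?_⟩
  have hx : (m10 * m21) * (m02 - m00 / m10 * m12 - (m01 - m00 / m10 * m11) / m21 * m22) = 1 := by
    field_simp
    rw [h0] at hd
    linear_combination hd
  have hz : ((Units.mk0 (-m10) (neg_ne_zero.2 h1) * Units.mk0 (-m21) (neg_ne_zero.2 h2) : Fˣ)⁻¹ : F) =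
      m02 - m00 / m10 * m12 - (m01 - m00 / m10 * m11) / m21 * m22 := by
    rw [Units.val_mul, Units.val_mk0, Units.val_mk0, neg_mul_neg]
    exact (eq_inv_of_mul_eq_one_right hx).symm
  intro i j
  simp only [Matrix.SpecialLinearGroup.coe_mul, n1_coe, n2_coe, D_coe, u_coe, Units.val_inv_eq_inv_val]
  rw [hz]
  fin_cases i <;> fin_cases j
  · simp [Matrix.mul_apply, Fin.sum_univ_succ]
    field_simp
    rfl
  · simp [Matrix.mul_apply, Fin.sum_univ_succ]
    field_simp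
    ring
  · simp [Matrix.mul_apply, Fin.sum_univ_succ]
    field_simp
    ring
  · simp [Matrix.mul_apply, Fin.sum_univ_succ]
    rfl
  · simp [Matrix.mul_apply, Fin.sum_univ_succ]
    field_simp
    rfl
  · simp [Matrix.mul_apply, Fin.sum_univ_succ]
    field_simp
    rfl
  · simp [Matrix.mul_apply, Fin.sum_univ_succ]
    exact h0
  · simp [Matrix.mul_apply, Fin.sum_univ_succ]
    rfl
  · simp [Matrix.mul_apply, Fin.sum_univ_succ]
    field_simp
    rfl

/-- type `B` -/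
theorem cellB (M : Matrix.SpecialLinearGroup (Fin 3) F) (h1 : M.1 2 0 ≠ 0)
    (h2 : M.1 1 0 * M.1 2 1 - M.1 1 1 * M.1 2 0 = 0) :
    ∃ a b c a' b' c' : F, ∃ p : Fˣ × Fˣ, M = u a b c * (n2 * n1) * D p * u a' b' c' := by
  have hd := det_eq M
  set m00 := M.1 0 0
  set m01 := M.1 0 1
  set m02 := M.1 0 2
  set m10 := M.1 1 0
  set m11 := M.1 1 1
  set m12 := M.1 1 2
  set m20 := M.1 2 0
  set m21 := M.1 2 1
  set m22 := M.1 2 2
  have hm11 : m11 = m10 / m20 * m21 := by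
    field_simp
    linear_combination -h2
  have hx : (m20 * (m01 - m00 / m20 * m21)) * (m12 - m10 / m20 * m22) = 1 := by
    field_simp
    linear_combination m20 * hd - m02 * h2 * m20 + m00 * m22 * h2
  have hx0 : m01 - m00 / m20 * m21 ≠ 0 := by
    intro h
    rw [h, mul_zero, zero_mul] at hx
    exact zero_ne_one hx
  set x := m01 - m00 / m20 * m21 with hxd
  refine ⟨0, m10 / m20, m00 / m20, m21 / m20, (m02 - m00 / m20 * m22) / x, m22 / m20,
    (Units.mk0 m20 h1, Units.mk0 x hx0), eq_of_entries ?_⟩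
  have hz : ((Units.mk0 m20 h1 * Units.mk0 x hx0 : Fˣ)⁻¹ : F) = m12 - m10 / m20 * m22 := by
    rw [Units.val_mul, Units.val_mk0, Units.val_mk0]
    exact (eq_inv_of_mul_eq_one_right hx).symm
  intro i j
  simp only [Matrix.SpecialLinearGroup.coe_mul, n1_coe, n2_coe, D_coe, u_coe, Units.val_inv_eq_inv_val]
  rw [hz]
  fin_cases i <;> fin_cases j
  · simp [Matrix.mul_apply, Fin.sum_univ_succ]
    field_simp
    rfl
  · simp [Matrix.mul_apply, Fin.sum_univ_succ]
    show m01 = _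
    rw [hxd]
    field_simp
    ring
  · simp [Matrix.mul_apply, Fin.sum_univ_succ]
    field_simp
    ring
  · simp [Matrix.mul_apply, Fin.sum_univ_succ]
    field_simp
    rfl
  · simp [Matrix.mul_apply, Fin.sum_univ_succ]
    show m11 = _
    rw [hm11]
    field_simp
  · simp [Matrix.mul_apply, Fin.sum_univ_succ]
    field_simp
    ring
  · simp [Matrix.mul_apply, Fin.sum_univ_succ]
    rfl
  · simp [Matrix.mul_apply, Fin.sum_univ_succ]
    field_simp
    rfl
  · simp [Matrix.mul_apply, Fin.sum_univ_succ]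
    field_simp
    rfl

end Cfsg.Agent.H420.PG.G2
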